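import Groth.Prelude.Def_OmegaPn
import Groth.Agent.OmegaLib.IdealMod
import Groth.Agent.ExistEasy.PP.PullSec
import Groth.Agent.ModPairLib.Basic
import Groth.Agent.QCoh.Qcqs
import Groth.Agent.QCoh.Support
import Groth.Agent.QCoh.Tilde
import Groth.Agent.QCoh.Pullback
import Groth.Agent.PnCoh.Unit
import Mathlib.RingTheory.IsTensorProduct
import Mathlib

/-!
# Base change maps of graded pieces of closed immersions
-/

set_option autoImplicit false
set_option backward.isDefEq.respectTransparency false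
set_option backward.isDefEq.respectTransparency.types false
set_option linter.style.haveILetI false

universe u

open CategoryTheory CategoryTheory.Limits AlgebraicGeometry TopologicalSpace Opposite
open scoped TensorProduct

namespace Groth.Agent.H1PP.GrMap

/-- A map of quasi-coherent modules bijective on an affine cover is an isomorphism. -/
theorem isIso_of_cover {X : Scheme.{u}} {M N : X.Modules} (hM : Coh.IsQCoh M) (hN : Coh.IsQCoh N)
    (φ : M ⟶ N) {ι : Type*} (U : ι → X.Opens) (haff : ∀ i, IsAffineOpen (U i)) (hU : ∀ x, ∃ i, x ∈ U i)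
    (h : ∀ i, Function.Bijective (φ.app (U i))) : IsIso φ := by
  haveI : Mono φ := by
    refine Preadditive.mono_of_kernel_zero ?_
    refine IsZero.eq_of_src (QCoh.isZero_of_cover (QCoh.isQCoh_kernel hM hN φ) U haff hU fun i =>
      subsingleton_of_forall_eq 0 fun z => ?_) _ _
    refine QCoh.app_injective (kernel.ι φ) (U i) ((h i).1 ?_)
    have := congrArg (fun ψ => Scheme.Modules.Hom.app ψ (U i) z) (kernel.condition φ)
    rw [map_zero, map_zero]
    exact this
  haveI : Epi φ := by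
    refine Preadditive.epi_of_cokernel_zero ?_
    refine IsZero.eq_of_tgt (QCoh.isZero_of_cover (QCoh.isQCoh_cokernel hM hN φ) U haff hU fun i =>
      subsingleton_of_forall_eq 0 fun z => ?_) _ _
    obtain ⟨y, rfl⟩ := QCoh.app_surjective_of_epi hN (QCoh.isQCoh_cokernel hM hN φ)
      (cokernel.π φ) (haff i) z
    obtain ⟨w, rfl⟩ := (h i).2 y
    exact congrArg (fun ψ => Scheme.Modules.Hom.app ψ (U i) w) (cokernel.condition φ)
  exact isIso_of_mono_of_epi φ

/-- A map of quasi-coherent modules surjective on an affine cover is an epimorphism. -/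
theorem epi_of_cover {X : Scheme.{u}} {M N : X.Modules} (hM : Coh.IsQCoh M) (hN : Coh.IsQCoh N)
    (φ : M ⟶ N) {ι : Type*} (U : ι → X.Opens) (haff : ∀ i, IsAffineOpen (U i)) (hU : ∀ x, ∃ i, x ∈ U i)
    (h : ∀ i, Function.Surjective (φ.app (U i))) : Epi φ := by
  refine Preadditive.epi_of_cokernel_zero ?_
  refine IsZero.eq_of_tgt (QCoh.isZero_of_cover (QCoh.isQCoh_cokernel hM hN φ) U haff hU fun i =>
    subsingleton_of_forall_eq 0 fun z => ?_) _ _
  obtain ⟨y, rfl⟩ := QCoh.app_surjective_of_epi hN (QCoh.isQCoh_cokernel hM hN φ)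
    (cokernel.π φ) (haff i) z
  obtain ⟨w, rfl⟩ := h i y
  exact congrArg (fun ψ => Scheme.Modules.Hom.app ψ (U i) w) (cokernel.condition φ)

theorem isQCoh_idealMod {P : Scheme.{u}} (K : P.IdealSheafData) : Coh.IsQCoh (ClSub.idealMod K) :=
  QCoh.isQCoh_kernel (PnCoh.isQCoh_structureModule P)
    (QCoh.isQCoh_pushforward K.subschemeι (PnCoh.isQCoh_structureModule K.subscheme)) _

theorem isQCoh_grMod {Y X : Scheme.{u}} (f : Y ⟶ X) (n : ℕ) : Coh.IsQCoh (PrinPart.grMod f n) :=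
  QCoh.isQCoh_pullback f (isQCoh_idealMod _)

theorem ker_eq_comap {Y X Y' X' : Scheme.{u}} {f : Y ⟶ X} [IsClosedImmersion f] {v : X' ⟶ X} {u : Y' ⟶ Y}
    {f' : Y' ⟶ X'} (hsq : IsPullback u f' f v) : f'.ker = f.ker.comap v := by
  rw [← Scheme.IdealSheafData.ker_fst_of_isClosedImmersion f v, ← hsq.flip.isoPullback_hom_fst,
    Scheme.Hom.ker_comp_of_isIso]

theorem comap_pow {X X' : Scheme.{u}} (I : X.IdealSheafData) (v : X' ⟶ X) (n : ℕ) :
    (I ^ n).comap v = I.comap v ^ n := by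
  choose W hW hxW _ using fun x : X' => exists_isAffineOpen_mem_and_subset (x := v x) (U := ⊤) trivial
  choose W' hW' hxW' hle using fun x : X' =>
    exists_isAffineOpen_mem_and_subset (x := x) (U := v ⁻¹ᵁ W x) (hxW x)
  refine Scheme.IdealSheafData.ext_of_iSup_eq_top (fun x => ⟨W' x, hW' x⟩)
    (eq_top_iff.2 fun x _ => Opens.mem_iSup.2 ⟨x, hxW' x⟩) fun x => ?_
  rw [ModPairLib.ideal_comap _ v ⟨W x, hW x⟩ ⟨W' x, hW' x⟩ (hle x)]
  simp only [Scheme.IdealSheafData.ideal_pow, Pi.pow_apply]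
  rw [ModPairLib.ideal_comap _ v ⟨W x, hW x⟩ ⟨W' x, hW' x⟩ (hle x), Ideal.map_pow]

theorem subschemeι_app_eq_zero {X X' : Scheme.{u}} {K : X.IdealSheafData} {K' : X'.IdealSheafData}
    {v : X' ⟶ X} (h : K.comap v ≤ K') (W : X.affineOpens) {x : Γ(X, W.1)} (hx : x ∈ K.ideal W) :
    K'.subschemeι.app (v ⁻¹ᵁ W.1) (v.app W.1 x) = 0 := by
  have h1 : K ≤ (K'.subschemeι ≫ v).ker := Scheme.IdealSheafData.le_map_iff_comap_le.mpr h
  exact RingHom.mem_ker.mp (Scheme.Hom.ideal_ker_le (K'.subschemeι ≫ v) W (h1 W hx))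

variable {Y X Y' X' : Scheme.{u}} (f : Y ⟶ X) [IsClosedImmersion f] (v : X' ⟶ X) (u : Y' ⟶ Y)
  (f' : Y' ⟶ X') [IsClosedImmersion f'] (n : ℕ)

theorem preimage_le (hcomm : f' ≫ v = u ≫ f) {W : X.Opens} {W' : X'.Opens} (hle : W' ≤ v ⁻¹ᵁ W) :
    f' ⁻¹ᵁ W' ≤ u ⁻¹ᵁ (f ⁻¹ᵁ W) := fun z hz => by
  have h := hle hz
  show (u ≫ f) z ∈ W
  rw [← hcomm]
  exact h

theorem app_pullSec_grSect
    {φ : (Scheme.Modules.pullback u).obj (PrinPart.grMod f n) ⟶ PrinPart.grMod f' n}
    (hφ : PrinPart.IsGrMap f' f v u n φ) (hK : (f.ker ^ n).comap v ≤ f'.ker ^ n)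
    (W : X.affineOpens) (W' : X'.affineOpens) (hle : W'.1 ≤ v ⁻¹ᵁ W.1)
    (e : f' ⁻¹ᵁ W'.1 ≤ u ⁻¹ᵁ (f ⁻¹ᵁ W.1))
    (k : Γ(ClSub.idealMod (f.ker ^ n), W.1)) (k' : Γ(ClSub.idealMod (f'.ker ^ n), W'.1))
    (hk : OmegaSh.idealSect (f'.ker ^ n) W'.1 k' =
      v.appLE W.1 W'.1 hle (OmegaSh.idealSect (f.ker ^ n) W.1 k)) :
    φ.app (f' ⁻¹ᵁ W'.1)
      (QCoh.pullSec u (PrinPart.grMod f n) e (PrinPart.grSect f n W.1 k)) =
      PrinPart.grSect f' n W'.1 k' := by
  obtain ⟨s, hs⟩ := OmegaLib.exists_idealSect_eq (f'.ker ^ n) (v ⁻¹ᵁ W.1)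
    (v.app W.1 (OmegaSh.idealSect (f.ker ^ n) W.1 k))
    (subschemeι_app_eq_zero hK W (OmegaLib.idealSect_mem _ W k))
  have hres : (ClSub.idealMod (f'.ker ^ n)).presheaf.map (homOfLE hle).op s = k' := by
    refine OmegaLib.idealSect_injective _ _ ?_
    rw [OmegaLib.idealSect_map, hs, hk]
    rfl
  have h := hφ.2 W.1 k s hs (f' ⁻¹ᵁ W'.1) e (f'.preimage_mono hle)
  have h1 : φ.app (f' ⁻¹ᵁ W'.1)
      (QCoh.pullSec u (PrinPart.grMod f n) e (PrinPart.grSect f n W.1 k)) =
      (PrinPart.grMod f' n).presheaf.map (homOfLE e).op (φ.app (u ⁻¹ᵁ (f ⁻¹ᵁ W.1))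
        (OmegaSh.pullSect u (PrinPart.grMod f n) (f ⁻¹ᵁ W.1) (PrinPart.grSect f n W.1 k))) :=
    congr($((Scheme.Modules.Hom.mapPresheaf φ).naturality (homOfLE e).op)
      (OmegaSh.pullSect u (PrinPart.grMod f n) (f ⁻¹ᵁ W.1) (PrinPart.grSect f n W.1 k)))
  rw [h1, h, ← hres]
  exact (OmegaSh.pullSect_map f' (ClSub.idealMod (f'.ker ^ n)) hle s).symm

set_option maxHeartbeats 1000000 in
/-- On affine charts: surjective, and bijective if the power of the ideal stays injective. -/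
theorem surjective_and_bijective
    {φ : (Scheme.Modules.pullback u).obj (PrinPart.grMod f n) ⟶ PrinPart.grMod f' n}
    (hφ : PrinPart.IsGrMap f' f v u n φ) (hker : f'.ker = f.ker.comap v)
    (W : X.affineOpens) (W' : X'.affineOpens) (hle : W'.1 ≤ v ⁻¹ᵁ W.1) :
    Function.Surjective (φ.app (f' ⁻¹ᵁ W'.1)) ∧
    ((letI := (v.appLE W.1 W'.1 hle).hom.toAlgebra
      Function.Injective (((f.ker ^ n).ideal W).subtype.baseChange Γ(X', W'.1))) →
      Function.Bijective (φ.app (f' ⁻¹ᵁ W'.1))) := by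
  classical
  have hK : f'.ker ^ n = (f.ker ^ n).comap v := by rw [comap_pow, hker]
  have hI : ((f'.ker ^ n).ideal W') = ((f.ker ^ n).ideal W).map (v.appLE W.1 W'.1 hle).hom := by
    rw [hK, ModPairLib.ideal_comap _ v W W' hle]
  have e : f' ⁻¹ᵁ W'.1 ≤ u ⁻¹ᵁ (f ⁻¹ᵁ W.1) := preimage_le f v u f' hφ.1.symm hle
  let A := Γ(X, W.1)
  let A' := Γ(X', W'.1)
  let B := Γ(Y, f ⁻¹ᵁ W.1)
  let B' := Γ(Y', f' ⁻¹ᵁ W'.1)
  letI iAA' : Algebra A A' := (v.appLE W.1 W'.1 hle).hom.toAlgebra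
  letI iAB : Algebra A B := (f.appLE W.1 (f ⁻¹ᵁ W.1) le_rfl).hom.toAlgebra
  letI iBB' : Algebra B B' := (u.appLE (f ⁻¹ᵁ W.1) (f' ⁻¹ᵁ W'.1) e).hom.toAlgebra
  letI iA'B' : Algebra A' B' := (f'.appLE W'.1 (f' ⁻¹ᵁ W'.1) le_rfl).hom.toAlgebra
  letI iAB' : Algebra A B' := ((algebraMap B B').comp (algebraMap A B)).toAlgebra
  haveI t1 : IsScalarTower A B B' := .of_algebraMap_eq fun a => rfl
  haveI t2 : IsScalarTower A A' B' := .of_algebraMap_eq fun a => by
    have heq : ∀ (g : Y' ⟶ X) (_ : g = f' ≫ v) (h : f' ⁻¹ᵁ W'.1 ≤ g ⁻¹ᵁ W.1),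
        g.appLE W.1 (f' ⁻¹ᵁ W'.1) h = v.appLE W.1 W'.1 hle ≫ f'.appLE W'.1 (f' ⁻¹ᵁ W'.1) le_rfl := by
      rintro g rfl h
      rw [Scheme.Hom.appLE_comp_appLE]
    have h2 : f.appLE W.1 (f ⁻¹ᵁ W.1) le_rfl ≫ u.appLE (f ⁻¹ᵁ W.1) (f' ⁻¹ᵁ W'.1) e =
        v.appLE W.1 W'.1 hle ≫ f'.appLE W'.1 (f' ⁻¹ᵁ W'.1) le_rfl := by
      rw [Scheme.Hom.appLE_comp_appLE]
      exact heq _ hφ.1 _
    exact congr($h2 a)
  -- the source
  let G : Y.Modules := (Scheme.Modules.pullback f).obj (ClSub.idealMod (f.ker ^ n))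
  let M := (Scheme.Modules.pullback u).obj G
  let N : Y'.Modules := (Scheme.Modules.pullback f').obj (ClSub.idealMod (f'.ker ^ n))
  let V := f' ⁻¹ᵁ W'.1
  letI mAG : Module Γ(X, W.1) Γ((Scheme.Modules.pullback f).obj (ClSub.idealMod (f.ker ^ n)), f ⁻¹ᵁ W.1) := Module.compHom _ (f.appLE W.1 (f ⁻¹ᵁ W.1) le_rfl).hom
  haveI tAG : IsScalarTower A B Γ(G, f ⁻¹ᵁ W.1) := ⟨fun a b c => mul_smul _ b c⟩
  letI mBM : Module B Γ(M, V) := Module.compHom _ (u.appLE (f ⁻¹ᵁ W.1) V e).hom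
  haveI tBM : IsScalarTower B B' Γ(M, V) := ⟨fun a b c => mul_smul _ b c⟩
  letI mAM : Module A Γ(M, V) := Module.compHom _ (algebraMap A B')
  haveI tAM : IsScalarTower A B' Γ(M, V) := ⟨fun a b c => mul_smul _ b c⟩
  haveI tABM : IsScalarTower A B Γ(M, V) := ⟨fun a b c => by
    show (algebraMap B B' (algebraMap A B a * b)) • c = algebraMap A B' a • algebraMap B B' b • c
    rw [map_mul, mul_smul]
    rfl⟩
  obtain ⟨g1, hg1, hb1⟩ := ExistEasy.exists_pullSec_baseChange f (isQCoh_idealMod (f.ker ^ n))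
    (W.2.preimage f) W.2 (le_refl (f ⁻¹ᵁ W.1))
  obtain ⟨g2, hg2, hb2⟩ := ExistEasy.exists_pullSec_baseChange u (M := G) (isQCoh_grMod f n)
    (W'.2.preimage f') (W.2.preimage f) e
  let L1 : Γ(ClSub.idealMod (f.ker ^ n), W.1) →ₗ[A] Γ(M, V) := (g2.restrictScalars A).comp g1
  have hL1 : IsBaseChange B' L1 := IsBaseChange.comp hb1 hb2
  -- the target
  letI mA'N : Module Γ(X', W'.1) Γ((Scheme.Modules.pullback f').obj (ClSub.idealMod (f'.ker ^ n)), f' ⁻¹ᵁ W'.1) := Module.compHom _ (f'.appLE W'.1 V le_rfl).hom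
  haveI tA'N : IsScalarTower A' B' Γ(N, V) := ⟨fun a b c => mul_smul _ b c⟩
  letI mAN : Module Γ(X, W.1) Γ((Scheme.Modules.pullback f').obj (ClSub.idealMod (f'.ker ^ n)), f' ⁻¹ᵁ W'.1) := Module.compHom _ (algebraMap A B')
  haveI tAN : IsScalarTower A B' Γ(N, V) := ⟨fun a b c => mul_smul _ b c⟩
  haveI tAA'N : IsScalarTower A A' Γ(N, V) := ⟨fun a b c => by
    show (algebraMap A' B' (algebraMap A A' a * b)) • c = algebraMap A B' a • algebraMap A' B' b • c
    rw [map_mul, mul_smul, ← IsScalarTower.algebraMap_apply]⟩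
  obtain ⟨g3, hg3, hb3⟩ := ExistEasy.exists_pullSec_baseChange f' (isQCoh_idealMod (f'.ker ^ n))
    (W'.2.preimage f') W'.2 (le_refl V)
  -- the map of ideals
  letI mAI : Module A Γ(ClSub.idealMod (f'.ker ^ n), W'.1) := Module.compHom _ (algebraMap A A')
  haveI tAI : IsScalarTower A A' Γ(ClSub.idealMod (f'.ker ^ n), W'.1) := ⟨fun a b c => mul_smul _ b c⟩
  have hjex : ∀ k : Γ(ClSub.idealMod (f.ker ^ n), W.1), ∃ k' : Γ(ClSub.idealMod (f'.ker ^ n), W'.1),
      OmegaSh.idealSect (f'.ker ^ n) W'.1 k' =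
        v.appLE W.1 W'.1 hle (OmegaSh.idealSect (f.ker ^ n) W.1 k) := fun k =>
    OmegaLib.exists_of_mem _ W' _ (hI ▸ Ideal.mem_map_of_mem _ (OmegaLib.idealSect_mem _ W k))
  choose j hj using hjex
  let jl : Γ(ClSub.idealMod (f.ker ^ n), W.1) →ₗ[A] Γ(ClSub.idealMod (f'.ker ^ n), W'.1) :=
    { toFun := j
      map_add' := fun x y => OmegaLib.idealSect_injective _ _ (by
        rw [map_add, hj, hj, hj, map_add, map_add])
      map_smul' := fun a x => OmegaLib.idealSect_injective _ _ (by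
        show _ = OmegaSh.idealSect _ _ (algebraMap A A' a • j x)
        rw [OmegaLib.idealSect_smul, hj, hj, OmegaLib.idealSect_smul, map_mul]
        rfl) }
  let φl : Γ(M, V) →ₗ[B'] Γ(N, V) :=
    { toFun := φ.app V
      map_add' := fun x y => map_add _ x y
      map_smul' := fun r x => Scheme.Modules.Hom.app_smul φ r x }
  have hcomm : ∀ k, φl (L1 k) = g3 (jl k) := by
    intro k
    show φ.app V (g2 (g1 k)) = g3 (j k)
    rw [hg2, hg1, hg3]
    have h1 : ∀ {P Q : Scheme.{u}} (p : P ⟶ Q) (F : Q.Modules) (U : Q.Opens) (x : Γ(F, U)),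
        QCoh.pullSec p F (le_refl (p ⁻¹ᵁ U)) x = OmegaSh.pullSect p F U x := by
      intro P Q p F U x
      unfold QCoh.pullSec
      rw [show (homOfLE (le_refl (p ⁻¹ᵁ U))).op = 𝟙 _ from rfl]
      simp
    rw [h1, h1]
    exact app_pullSec_grSect f v u f' n hφ hK.ge W W' hle e k (j k) (hj k)
  -- spanning
  have hspan : ∀ k' : Γ(ClSub.idealMod (f'.ker ^ n), W'.1), k' ∈ Submodule.span A' (Set.range jl) := by
    intro k'
    have hx : OmegaSh.idealSect _ W'.1 k' ∈
        ((f.ker ^ n).ideal W).map (v.appLE W.1 W'.1 hle).hom := hI ▸ OmegaLib.idealSect_mem _ W' k'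
    suffices h : ∀ x ∈ ((f.ker ^ n).ideal W).map (v.appLE W.1 W'.1 hle).hom,
        ∃ y ∈ Submodule.span A' (Set.range jl), OmegaSh.idealSect (f'.ker ^ n) W'.1 y = x by
      obtain ⟨y, hy, hyx⟩ := h _ hx
      exact OmegaLib.idealSect_injective _ _ hyx ▸ hy
    intro x hx
    induction hx using Submodule.span_induction with
    | mem x hx =>
      obtain ⟨a, ha, rfl⟩ := hx
      obtain ⟨k, rfl⟩ := OmegaLib.exists_of_mem _ W a ha
      exact ⟨jl k, Submodule.subset_span ⟨k, rfl⟩, hj k⟩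
    | zero => exact ⟨0, zero_mem _, map_zero _⟩
    | add a b _ _ ha hb =>
      obtain ⟨y, hy, rfl⟩ := ha
      obtain ⟨z, hz, rfl⟩ := hb
      exact ⟨y + z, add_mem hy hz, map_add _ _ _⟩
    | smul r a _ ha =>
      obtain ⟨y, hy, rfl⟩ := ha
      exact ⟨r • y, Submodule.smul_mem _ r hy, OmegaLib.idealSect_smul _ _ _ _⟩
  have hrange : ∀ k', g3 k' ∈ LinearMap.range φl := by
    intro k'
    induction hspan k' using Submodule.span_induction with
    | mem x hx =>
      obtain ⟨k, rfl⟩ := hx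
      exact ⟨L1 k, hcomm k⟩
    | zero => rw [map_zero]; exact zero_mem _
    | add a b _ _ ha hb => rw [map_add]; exact add_mem ha hb
    | smul r a _ ha =>
      rw [map_smul]
      exact Submodule.smul_mem (LinearMap.range φl) (algebraMap A' B' r) ha
  have hsurj : Function.Surjective φl := by
    intro z
    exact hb3.inductionOn z (fun z => z ∈ LinearMap.range φl) (zero_mem _) hrange
      (fun b y hy => Submodule.smul_mem _ b hy) fun a b ha hb => add_mem ha hb
  refine ⟨hsurj, fun hinj => ?_⟩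
  -- the ideal map is a base change
  have hjb : IsBaseChange A' jl := by
    let T : A' ⊗[A] Γ(ClSub.idealMod (f.ker ^ n), W.1) →ₗ[A'] Γ(ClSub.idealMod (f'.ker ^ n), W'.1) :=
      LinearMap.liftBaseChange A' jl
    have hTs : Function.Surjective T := by
      intro k'
      induction hspan k' using Submodule.span_induction with
      | mem x hx =>
        obtain ⟨k, rfl⟩ := hx
        exact ⟨1 ⊗ₜ k, by simp [T]⟩
      | zero => exact ⟨0, map_zero _⟩
      | add a b _ _ ha hb =>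
        obtain ⟨p, rfl⟩ := ha
        obtain ⟨q, rfl⟩ := hb
        exact ⟨p + q, map_add _ _ _⟩
      | smul r a _ ha =>
        obtain ⟨p, rfl⟩ := ha
        exact ⟨r • p, map_smul _ _ _⟩
    have hTi : Function.Injective T := by
      let w : Γ(ClSub.idealMod (f.ker ^ n), W.1) →ₗ[A] (f.ker ^ n).ideal W :=
        { toFun := fun k => ⟨OmegaSh.idealSect _ W.1 k, OmegaLib.idealSect_mem _ W k⟩
          map_add' := fun a b => Subtype.ext (map_add _ a b)
          map_smul' := fun r k => Subtype.ext (OmegaLib.idealSect_smul _ W.1 r k) }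
      have hw : Function.Bijective w :=
        ⟨fun a b h => OmegaLib.idealSect_injective _ W.1 (congrArg Subtype.val h),
          fun x => (OmegaLib.exists_of_mem _ W x.1 x.2).imp fun k hk => Subtype.ext hk⟩
      let F : A' ⊗[A] Γ(ClSub.idealMod (f.ker ^ n), W.1) →ₗ[A'] A' :=
        (TensorProduct.AlgebraTensorModule.rid A A' A').toLinearMap.comp
          ((((f.ker ^ n).ideal W).subtype.baseChange A').comp
            (LinearEquiv.baseChange A A' _ _ (LinearEquiv.ofBijective w hw)).toLinearMap)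
      have hFi : Function.Injective F := by
        simp only [F, LinearMap.coe_comp, LinearEquiv.coe_coe]
        exact (LinearEquiv.injective _).comp (hinj.comp (LinearEquiv.injective _))
      have hFT : ∀ x, OmegaSh.idealSect (f'.ker ^ n) W'.1 (T x) = F x := by
        intro x
        induction x using TensorProduct.induction_on with
        | zero => simp
        | tmul r k =>
          simp only [T, F, LinearMap.liftBaseChange_tmul, LinearMap.coe_comp, Function.comp_apply,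
            LinearEquiv.coe_coe, LinearEquiv.baseChange_tmul, LinearMap.baseChange_tmul,
            TensorProduct.AlgebraTensorModule.rid_tmul]
          rw [OmegaLib.idealSect_smul]
          show r * OmegaSh.idealSect _ _ (j k) = algebraMap A A' (OmegaSh.idealSect _ _ k) * r
          rw [hj, mul_comm]
          rfl
        | add a b ha hb => simp only [map_add, ha, hb]
      intro a b hab
      exact hFi (by rw [← hFT, ← hFT, hab])
    exact IsBaseChange.of_equiv (LinearEquiv.ofBijective T ⟨hTi, hTs⟩) fun k => by simp [T]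
  let L2 : Γ(ClSub.idealMod (f.ker ^ n), W.1) →ₗ[A] Γ(N, V) := (g3.restrictScalars A).comp jl
  have hL2 : IsBaseChange B' L2 := IsBaseChange.comp hjb hb3
  have hφeq : φl = (hL1.equiv.symm.trans hL2.equiv).toLinearMap := by
    refine hL1.algHom_ext _ _ fun k => ?_
    rw [hcomm, LinearEquiv.coe_coe, LinearEquiv.trans_apply, IsBaseChange.equiv_symm_apply,
      IsBaseChange.equiv_tmul, one_smul]
    rfl
  show Function.Bijective φl
  rw [hφeq]
  exact LinearEquiv.bijective _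

variable {f v u f' n}

/-- The base change map of graded pieces is an epimorphism. -/
theorem epi_of_isPullback
    {φ : (Scheme.Modules.pullback u).obj (PrinPart.grMod f n) ⟶ PrinPart.grMod f' n}
    (hφ : PrinPart.IsGrMap f' f v u n φ) (hker : f'.ker = f.ker.comap v) : Epi φ := by
  choose W hW hxW _ using fun y : Y' => exists_isAffineOpen_mem_and_subset (x := v (f' y)) (U := ⊤) trivial
  choose W' hW' hxW' hle using fun y : Y' =>
    exists_isAffineOpen_mem_and_subset (x := f' y) (U := v ⁻¹ᵁ W y) (hxW y)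
  exact epi_of_cover (QCoh.isQCoh_pullback u (isQCoh_grMod f n)) (isQCoh_grMod f' n) φ
    (fun y => f' ⁻¹ᵁ W' y) (fun y => (hW' y).preimage f') (fun y => ⟨y, hxW' y⟩)
    fun y => (surjective_and_bijective f v u f' n hφ hker ⟨W y, hW y⟩ ⟨W' y, hW' y⟩ (hle y)).1

/-- The base change map of graded pieces is an isomorphism if powers stay injective. -/
theorem isIso_of_injective
    {φ : (Scheme.Modules.pullback u).obj (PrinPart.grMod f n) ⟶ PrinPart.grMod f' n}
    (hφ : PrinPart.IsGrMap f' f v u n φ) (hker : f'.ker = f.ker.comap v)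
    (hinj : ∀ y : Y', ∃ (W : X.affineOpens) (W' : X'.affineOpens) (hle : W'.1 ≤ v ⁻¹ᵁ W.1), f' y ∈ W'.1 ∧
      (letI := (v.appLE W.1 W'.1 hle).hom.toAlgebra
       Function.Injective (((f.ker ^ n).ideal W).subtype.baseChange Γ(X', W'.1)))) : IsIso φ := by
  choose W W' hle hy hi using hinj
  exact isIso_of_cover (QCoh.isQCoh_pullback u (isQCoh_grMod f n)) (isQCoh_grMod f' n) φ
    (fun y => f' ⁻¹ᵁ (W' y).1) (fun y => (W' y).2.preimage f') (fun y => ⟨y, hy y⟩)
    fun y => (surjective_and_bijective f v u f' n hφ hker (W y) (W' y) (hle y)).2 (hi y)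

end Groth.Agent.H1PP.GrMap
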