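import Groth.Agent.PPSheaf.Gen
import Groth.Agent.PPLib.Props
import Mathlib

/-!
# The first projection of the neighbourhood of the diagonal is affine
-/

set_option autoImplicit false
set_option linter.style.haveILetI false

universe u

open CategoryTheory CategoryTheory.Limits AlgebraicGeometry TopologicalSpace Opposite
open scoped TensorProduct

namespace Groth.Agent.H1PP

variable {X S : Scheme.{u}} (f : X ⟶ S) (n : ℕ)

/-- The chart as an isomorphism with the principal parts of rings. -/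
theorem exists_chart_equiv (V : S.affineOpens) (U : X.affineOpens) (e : U.1 ≤ f ⁻¹ᵁ V.1)
    [Algebra Γ(S, V.1) Γ(X, U.1)] (halg : algebraMap Γ(S, V.1) Γ(X, U.1) = (f.appLE V.1 U.1 e).hom) :
    IsAffineOpen (PrinPart.pr1 f n ⁻¹ᵁ U.1) ∧
    ∃ ε : PP16.P n Γ(S, V.1) Γ(X, U.1) ≃+* Γ(PrinPart.nbhd f n, PrinPart.pr1 f n ⁻¹ᵁ U.1),
      (∀ b, ε (algebraMap Γ(X, U.1) _ b) = (PrinPart.pr1 f n).app U.1 b) ∧
      (∀ b, ε (PP16.dn n Γ(S, V.1) Γ(X, U.1) b) =
        (PrinPart.pr2 f n).appLE U.1 (PrinPart.pr1 f n ⁻¹ᵁ U.1) (PrinPart.preimage_pr1 f n U.1).le b) := by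
  obtain ⟨hW, ψ, hsurj, hker, hl, hr⟩ := PPSheaf.exists_chart f V U e n halg
  refine ⟨hW, (Ideal.quotEquivOfEq hker.symm).trans (RingHom.quotientKerEquivOfSurjective hsurj), hl, hr⟩

instance isAffineHom_pr1 : IsAffineHom (PrinPart.pr1 f n) := by
  refine isAffineHom_of_forall_exists_isAffineOpen _ fun x => ?_
  obtain ⟨V, U, hxU, e⟩ := PPSheaf.exists_affine_pair f x
  letI := (f.appLE V.1 U.1 e).hom.toAlgebra
  exact ⟨U.1, hxU, U.2, (exists_chart_equiv f n V U e rfl).1⟩

theorem locallyOfFinitePresentation_pr1 [LocallyOfFinitePresentation f] :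
    LocallyOfFinitePresentation (PrinPart.pr1 f n) := by
  rw [HasRingHomProperty.iff_exists_appLE (P := @LocallyOfFinitePresentation)
    (RingHom.finitePresentation_stableUnderComposition.stableUnderCompositionWithLocalizationAway
      RingHom.finitePresentation_holdsForLocalizationAway).left]
  intro z
  obtain ⟨V, U, hxU, e⟩ := PPSheaf.exists_affine_pair f (PrinPart.pr1 f n z)
  letI alg := (f.appLE V.1 U.1 e).hom.toAlgebra
  obtain ⟨hW, ε, hε, -⟩ := exists_chart_equiv f n V U e rfl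
  refine ⟨U, ⟨_, hW⟩, hxU, le_rfl, ?_⟩
  haveI : Algebra.FinitePresentation Γ(S, V.1) Γ(X, U.1) := f.finitePresentation_appLE V.2 U.2 e
  haveI : Algebra.FinitePresentation Γ(X, U.1) (PP16.P n Γ(S, V.1) Γ(X, U.1)) :=
    Algebra.FinitePresentation.quotient (Ideal.FG.pow (KaehlerDifferential.ideal_fg Γ(S, V.1) Γ(X, U.1)))
  have h1 : (ε.toRingHom.comp (algebraMap Γ(X, U.1) (PP16.P n Γ(S, V.1) Γ(X, U.1)))).FinitePresentation :=
    (RingHom.FinitePresentation.of_surjective _ ε.surjective (by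
      rw [(RingHom.injective_iff_ker_eq_bot ε.toRingHom).mp ε.injective]; exact Submodule.fg_bot)).comp
      (RingHom.finitePresentation_algebraMap.mpr inferInstance)
  rw [show ε.toRingHom.comp (algebraMap Γ(X, U.1) _) = ((PrinPart.pr1 f n).app U.1).hom from RingHom.ext hε] at h1
  rwa [Scheme.Hom.app_eq_appLE] at h1

set_option backward.isDefEq.respectTransparency.types false in
theorem isFinite_pr1 [LocallyOfFiniteType f] : IsFinite (PrinPart.pr1 f n) := by
  choose V U hxU e using fun x : X => PPSheaf.exists_affine_pair f x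
  rw [HasAffineProperty.iff_of_iSup_eq_top (P := @IsFinite.{u})
    (Q := fun X _ f _ => IsAffine X ∧ RingHom.Finite f.appTop.hom) U
    (top_le_iff.mp fun x _ => Opens.mem_iSup.mpr ⟨x, hxU x⟩)]
  intro x
  letI alg := (f.appLE (V x).1 (U x).1 (e x)).hom.toAlgebra
  obtain ⟨hW, ε, hε, -⟩ := exists_chart_equiv f n (V x) (U x) (e x) rfl
  refine ⟨hW, ?_⟩
  haveI : Algebra.FiniteType Γ(S, (V x).1) Γ(X, (U x).1) := f.finiteType_appLE (V x).2 (U x).2 (e x)
  haveI := PPLib.finite_P (n := n) (A := Γ(S, (V x).1)) (B := Γ(X, (U x).1))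
  have h1 : (ε.toRingHom.comp (algebraMap Γ(X, (U x).1) (PP16.P n Γ(S, (V x).1) Γ(X, (U x).1)))).Finite :=
    (RingHom.Finite.of_surjective _ ε.surjective).comp (RingHom.finite_algebraMap.mpr inferInstance)
  rw [show ε.toRingHom.comp (algebraMap Γ(X, (U x).1) _) = ((PrinPart.pr1 f n).app (U x).1).hom from
    RingHom.ext hε] at h1
  have key : ∀ W : X.Opens, W = (U x).1 → ((PrinPart.pr1 f n).app W).hom.Finite := by
    rintro W rfl
    exact h1
  rw [morphismRestrict_appTop]
  exact RingHom.Finite.comp (RingHom.Finite.of_surjective _ (ConcreteCategory.bijective_of_isIso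
    ((PrinPart.nbhd f n).presheaf.map (eqToHom (image_morphismRestrict_preimage (PrinPart.pr1 f n) (U x).1 ⊤)).op)).2)
    (key _ (U x).1.ι_image_top)

end Groth.Agent.H1PP
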