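import Groth.Agent.PPSheaf.Gen
import Mathlib.Algebra.BigOperators.Ring.Finset

/-!
# Products of `n + 1` differences of the two projections vanish on the `n`-th neighbourhood
-/

set_option autoImplicit false
set_option linter.style.haveILetI false

universe u

open CategoryTheory CategoryTheory.Limits AlgebraicGeometry TopologicalSpace Opposite
open scoped TensorProduct

namespace Groth.Agent.H1PP

variable {X S : Scheme.{u}} (f : X ⟶ S) (n : ℕ)

/-- The left comorphism on sections. -/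
noncomputable abbrev p1 (U : X.Opens) : Γ(X, U) →+* Γ(PrinPart.nbhd f n, PrinPart.pr1 f n ⁻¹ᵁ U) :=
  ((PrinPart.pr1 f n).app U).hom

/-- The right comorphism on sections, seen over the same open. -/
noncomputable abbrev p2 (U : X.Opens) : Γ(X, U) →+* Γ(PrinPart.nbhd f n, PrinPart.pr1 f n ⁻¹ᵁ U) :=
  ((PrinPart.pr2 f n).appLE U (PrinPart.pr1 f n ⁻¹ᵁ U) (PrinPart.preimage_pr1 f n U).le).hom

theorem p1_res {U V : X.Opens} (h : V ≤ U) (a : Γ(X, U)) :
    p1 f n V (X.presheaf.map (homOfLE h).op a) =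
      (PrinPart.nbhd f n).presheaf.map (homOfLE ((PrinPart.pr1 f n).preimage_mono h)).op (p1 f n U a) :=
  congr($((PrinPart.pr1 f n).naturality (homOfLE h).op) a)

theorem p2_res {U V : X.Opens} (h : V ≤ U) (a : Γ(X, U)) :
    p2 f n V (X.presheaf.map (homOfLE h).op a) =
      (PrinPart.nbhd f n).presheaf.map (homOfLE ((PrinPart.pr1 f n).preimage_mono h)).op (p2 f n U a) := by
  have h1 := (PrinPart.pr2 f n).map_appLE (PrinPart.preimage_pr1 f n V).le (homOfLE h).op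
  have h2 := (PrinPart.pr2 f n).appLE_map (PrinPart.preimage_pr1 f n U).le
    (homOfLE ((PrinPart.pr1 f n).preimage_mono h)).op
  have h3 := h1.trans h2.symm
  exact congr($h3 a)

/-- On a chart the product of `n + 1` differences vanishes. -/
theorem prod_zeta_chart (V : S.affineOpens) (U : X.affineOpens) (e : U.1 ≤ f ⁻¹ᵁ V.1)
    (a : Fin (n + 1) → Γ(X, U.1)) : ∏ i, (p2 f n U.1 (a i) - p1 f n U.1 (a i)) = 0 := by
  letI := (f.appLE V.1 U.1 e).hom.toAlgebra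
  obtain ⟨-, ψ, -, hker, hl, hr⟩ := PPSheaf.exists_chart f V U e n rfl
  have hfac : ∀ i, p2 f n U.1 (a i) - p1 f n U.1 (a i) =
      ψ ((1 : Γ(X, U.1)) ⊗ₜ[Γ(S, V.1)] a i - a i ⊗ₜ[Γ(S, V.1)] (1 : Γ(X, U.1))) := fun i => by
    rw [map_sub, hl, hr]
  simp only [hfac]
  rw [← map_prod, ← RingHom.mem_ker, hker]
  have := Ideal.prod_mem_prod (s := (Finset.univ : Finset (Fin (n + 1))))
    (I := fun _ => KaehlerDifferential.ideal Γ(S, V.1) Γ(X, U.1))
    (x := fun i => (1 : Γ(X, U.1)) ⊗ₜ[Γ(S, V.1)] a i - a i ⊗ₜ[Γ(S, V.1)] (1 : Γ(X, U.1)))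
    fun i _ => KaehlerDifferential.one_smul_sub_smul_one_mem_ideal _ _
  simpa using this

/-- The product of `n + 1` differences vanishes. -/
theorem prod_zeta (U : X.Opens) (a : Fin (n + 1) → Γ(X, U)) :
    ∏ i, (p2 f n U (a i) - p1 f n U (a i)) = 0 := by
  refine TopCat.Presheaf.section_ext (PrinPart.nbhd f n).sheaf _ _ _ fun z hz => ?_
  obtain ⟨_, ⟨V, hV, rfl⟩, hxV, -⟩ :=
    S.isBasis_affineOpens.exists_subset_of_mem_open (Set.mem_univ (f (PrinPart.pr1 f n z))) isOpen_univ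
  obtain ⟨_, ⟨W, hW, rfl⟩, hxW, hWle⟩ :=
    X.isBasis_affineOpens.exists_subset_of_mem_open
      (show PrinPart.pr1 f n z ∈ ((U ⊓ f ⁻¹ᵁ V : X.Opens) : Set X) from ⟨hz, hxV⟩) (U ⊓ f ⁻¹ᵁ V).isOpen
  have hWU : W ≤ U := fun x hx => (hWle hx).1
  have key := prod_zeta_chart f n ⟨V, hV⟩ ⟨W, hW⟩ (fun x hx => (hWle hx).2)
    (fun i => X.presheaf.map (homOfLE hWU).op (a i))
  simp only [p1_res, p2_res, ← map_sub, ← map_prod] at key
  have h2 := congrArg ((PrinPart.nbhd f n).presheaf.germ (PrinPart.pr1 f n ⁻¹ᵁ W) z hxW) key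
  erw [TopCat.Presheaf.germ_res_apply, map_zero] at h2
  erw [map_zero]
  exact h2

variable (F G : X.Modules)

/-- A section of `P^n(F)` over `U`, as a section of the pullback. -/
abbrev toPull (U : X.Opens) (σ : Γ(PrinPart.PMod f n F, U)) :
    Γ((Scheme.Modules.pullback (PrinPart.pr2 f n)).obj F, PrinPart.pr1 f n ⁻¹ᵁ U) := σ

theorem smul_eq (U : X.Opens) (a : Γ(X, U)) (σ : Γ(PrinPart.PMod f n F, U)) :
    toPull f n F U (a • σ) = p1 f n U a • toPull f n F U σ := rfl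

theorem dP_smul (U : X.Opens) (a : Γ(X, U)) (t : Γ(F, U)) :
    toPull f n F U (PrinPart.dP f n F U (a • t)) = p2 f n U a • toPull f n F U (PrinPart.dP f n F U t) := by
  show ((Scheme.Modules.pullback (PrinPart.pr2 f n)).obj F).presheaf.map _
    (OmegaSh.pullSect (PrinPart.pr2 f n) F U (a • t)) = _
  rw [OmegaSh.pullSect_smul, Scheme.Modules.map_smul]
  rfl

/-- The alternating sums of `d^n` vanish. -/
theorem altSum_dP (U : X.Opens) (a : Fin (n + 1) → Γ(X, U)) (t : Γ(F, U)) :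
    (∑ H : Finset (Fin (n + 1)),
      ((-1 : ℤ) ^ H.card) • ((∏ i ∈ H, a i) • PrinPart.dP f n F U ((∏ i ∈ Hᶜ, a i) • t))) = 0 := by
  let M := (Scheme.Modules.pullback (PrinPart.pr2 f n)).obj F
  let τ : Γ(M, PrinPart.pr1 f n ⁻¹ᵁ U) := toPull f n F U (PrinPart.dP f n F U t)
  have hterm : ∀ H : Finset (Fin (n + 1)),
      toPull f n F U (((-1 : ℤ) ^ H.card) • ((∏ i ∈ H, a i) • PrinPart.dP f n F U ((∏ i ∈ Hᶜ, a i) • t))) =
        ((∏ i ∈ H, -p1 f n U (a i)) * ∏ i ∈ Hᶜ, p2 f n U (a i)) • τ := by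
    intro H
    show ((-1 : ℤ) ^ H.card) • toPull f n F U ((∏ i ∈ H, a i) • PrinPart.dP f n F U ((∏ i ∈ Hᶜ, a i) • t)) = _
    rw [smul_eq, dP_smul, map_prod, map_prod, Finset.prod_neg, smul_smul, ← Int.cast_smul_eq_zsmul
      (Γ(PrinPart.nbhd f n, PrinPart.pr1 f n ⁻¹ᵁ U)), smul_smul, mul_assoc]
    push_cast
    rfl
  have hsum : toPull f n F U (∑ H : Finset (Fin (n + 1)),
      ((-1 : ℤ) ^ H.card) • ((∏ i ∈ H, a i) • PrinPart.dP f n F U ((∏ i ∈ Hᶜ, a i) • t))) =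
      ∑ H : Finset (Fin (n + 1)), toPull f n F U
        (((-1 : ℤ) ^ H.card) • ((∏ i ∈ H, a i) • PrinPart.dP f n F U ((∏ i ∈ Hᶜ, a i) • t))) :=
    rfl
  have : toPull f n F U (∑ H : Finset (Fin (n + 1)),
      ((-1 : ℤ) ^ H.card) • ((∏ i ∈ H, a i) • PrinPart.dP f n F U ((∏ i ∈ Hᶜ, a i) • t))) = 0 := by
    rw [hsum, Finset.sum_congr rfl fun H _ => hterm H, ← Finset.sum_smul]
    have h := Finset.prod_add (fun i => -p1 f n U (a i)) (fun i => p2 f n U (a i)) Finset.univ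
    rw [Finset.powerset_univ] at h
    simp only [← Finset.compl_eq_univ_sdiff] at h
    rw [← h]
    simp only [neg_add_eq_sub]
    rw [prod_zeta, zero_smul]
  exact this

variable {F G}

/-- Differential operators have vanishing alternating sums. -/
theorem altSum_of_isDiffOpLE {D : F.presheaf ⟶ G.presheaf} (hD : PrinPart.IsDiffOpLE f F G n D)
    (U : X.Opens) (a : Fin (n + 1) → Γ(X, U)) (t : Γ(F, U)) :
    (∑ H : Finset (Fin (n + 1)),
      ((-1 : ℤ) ^ H.card) • ((∏ i ∈ H, a i) • D.app (op U) ((∏ i ∈ Hᶜ, a i) • t))) = 0 := by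
  obtain ⟨v, hv⟩ := hD
  have h := congrArg (v.app U) (altSum_dP f n F U a t)
  rw [map_zero, map_sum] at h
  refine Eq.trans (Finset.sum_congr rfl fun H _ => ?_) h
  rw [map_zsmul, Scheme.Modules.Hom.app_smul, hv]

end Groth.Agent.H1PP

namespace Groth.Agent.H1PP

variable {X S : Scheme.{u}} (f : X ⟶ S) (n : ℕ) (F : X.Modules)

theorem p1_base (V : S.Opens) (U : X.Opens) (hU : U ≤ f ⁻¹ᵁ V) (c : Γ(S, V)) :
    p1 f n U (X.presheaf.map (homOfLE hU).op (f.app V c)) =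
      p2 f n U (X.presheaf.map (homOfLE hU).op (f.app V c)) := by
  have e1 : ∀ (h : PrinPart.pr1 f n ⁻¹ᵁ U ≤ (PrinPart.pr1 f n ≫ f) ⁻¹ᵁ V),
      p1 f n U (X.presheaf.map (homOfLE hU).op (f.app V c)) =
        (PrinPart.pr1 f n ≫ f).appLE V (PrinPart.pr1 f n ⁻¹ᵁ U) h c := by
    intro h
    show (PrinPart.pr1 f n).app U (f.appLE V U hU c) = _
    rw [Scheme.Hom.app_eq_appLE, ← CommRingCat.comp_apply, Scheme.Hom.appLE_comp_appLE]
  have hle : PrinPart.pr1 f n ⁻¹ᵁ U ≤ (PrinPart.pr2 f n ≫ f) ⁻¹ᵁ V :=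
    fun z hz => hU ((PrinPart.preimage_pr1 f n U).le hz)
  have e2 : p2 f n U (X.presheaf.map (homOfLE hU).op (f.app V c)) =
      (PrinPart.pr2 f n ≫ f).appLE V (PrinPart.pr1 f n ⁻¹ᵁ U) hle c := by
    show (PrinPart.pr2 f n).appLE U _ _ (f.appLE V U hU c) = _
    rw [← CommRingCat.comp_apply, Scheme.Hom.appLE_comp_appLE]
  rw [e1 (by rw [PrinPart.pr1_comp]; exact hle), e2,
    PPSheaf.appLE_congr_hom (PrinPart.pr1_comp f n)]

/-- `d^n` is linear for functions from the base. -/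
theorem dP_base (V : S.Opens) (U : X.Opens) (hU : U ≤ f ⁻¹ᵁ V) (c : Γ(S, V)) (t : Γ(F, U)) :
    PrinPart.dP f n F U (X.presheaf.map (homOfLE hU).op (f.app V c) • t) =
      X.presheaf.map (homOfLE hU).op (f.app V c) • PrinPart.dP f n F U t := by
  have h := dP_smul f n F U (X.presheaf.map (homOfLE hU).op (f.app V c)) t
  rw [← p1_base] at h
  exact h

theorem app_base {G : X.Modules} {D : F.presheaf ⟶ G.presheaf} (hD : PrinPart.IsDiffOpLE f F G n D)
    (V : S.Opens) (U : X.Opens) (hU : U ≤ f ⁻¹ᵁ V) (c : Γ(S, V)) (t : Γ(F, U)) :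
    D.app (op U) (X.presheaf.map (homOfLE hU).op (f.app V c) • t) =
      X.presheaf.map (homOfLE hU).op (f.app V c) • D.app (op U) t := by
  obtain ⟨v, hv⟩ := hD
  rw [hv, dP_base, Scheme.Modules.Hom.app_smul, hv]

end Groth.Agent.H1PP
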