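import Groth.Agent.H1PP.Univ

/-!
# Composition of differential operators
-/

set_option autoImplicit false
set_option linter.style.haveILetI false

universe u

open CategoryTheory CategoryTheory.Limits AlgebraicGeometry TopologicalSpace Opposite

namespace Groth.Agent.H1PP

theorem altSum_comp {B M N P : Type u} [CommRing B] [AddCommGroup M] [Module B M] [AddCommGroup N] [Module B N]
    [AddCommGroup P] [Module B P] (D : M →+ N) (D' : N →+ P) (n n' : ℕ)
    (hD : ∀ (a : Fin (n + 1) → B) (t : M), (∑ H : Finset (Fin (n + 1)),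
      ((-1 : ℤ) ^ H.card) • ((∏ i ∈ H, a i) • D ((∏ i ∈ Hᶜ, a i) • t))) = 0)
    (hD' : ∀ (a : Fin (n' + 1) → B) (t : N), (∑ H : Finset (Fin (n' + 1)),
      ((-1 : ℤ) ^ H.card) • ((∏ i ∈ H, a i) • D' ((∏ i ∈ Hᶜ, a i) • t))) = 0)
    (a : Fin (n + n' + 1) → B) (t : M) : (∑ H : Finset (Fin (n + n' + 1)),
      ((-1 : ℤ) ^ H.card) • ((∏ i ∈ H, a i) • D' (D ((∏ i ∈ Hᶜ, a i) • t)))) = 0 := by
  classical
  letI : Algebra (ULift.{u} ℤ) B :=
    { smul := (· • ·)
      algebraMap := (algebraMap ℤ B).comp (ULift.ringEquiv (R := ℤ)).toRingHom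
      commutes' := fun _ _ => mul_comm _ _
      smul_def' := fun c b => Algebra.smul_def c.down b }
  haveI : IsScalarTower (ULift.{u} ℤ) B M := ⟨fun c b m => smul_assoc c.down b m⟩
  haveI : IsScalarTower (ULift.{u} ℤ) B N := ⟨fun c b m => smul_assoc c.down b m⟩
  haveI : IsScalarTower (ULift.{u} ℤ) B P := ⟨fun c b m => smul_assoc c.down b m⟩
  let l : M →ₗ[ULift.{u} ℤ] N :=
    { toFun := D, map_add' := map_add D, map_smul' := fun c m => map_zsmul D c.down m }
  let l' : N →ₗ[ULift.{u} ℤ] P :=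
    { toFun := D', map_add' := map_add D', map_smul' := fun c m => map_zsmul D' c.down m }
  have h1 : Diff16.IsDiffOpLE (ULift.{u} ℤ) B M N n l := by
    rw [DiffOps.isDiffOpLE_iff_altSum]
    intro b m
    simp only [DiffOps.altSum, Finset.powerset_univ, ← Finset.compl_eq_univ_sdiff]
    exact hD b m
  have h2 : Diff16.IsDiffOpLE (ULift.{u} ℤ) B N P n' l' := by
    rw [DiffOps.isDiffOpLE_iff_altSum]
    intro b m
    simp only [DiffOps.altSum, Finset.powerset_univ, ← Finset.compl_eq_univ_sdiff]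
    exact hD' b m
  have h3 := (DiffOps.isDiffOpLE_iff_altSum _ _).mp (DiffOps.isDiffOpLE_comp h1 h2) a t
  simp only [DiffOps.altSum, Finset.powerset_univ, ← Finset.compl_eq_univ_sdiff] at h3
  exact h3

variable {X S : Scheme.{u}} (f : X ⟶ S) {F G H : X.Modules}

theorem isDiffOpLE_comp (n n' : ℕ) {D : F.presheaf ⟶ G.presheaf} {D' : G.presheaf ⟶ H.presheaf}
    (hD : PrinPart.IsDiffOpLE f F G n D) (hD' : PrinPart.IsDiffOpLE f G H n' D') :
    PrinPart.IsDiffOpLE f F H (n + n') (D ≫ D') := by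
  refine isDiffOpLE_of_altVanish (fun V _ U hU t => ?_) (fun U a t => ?_)
  · show D'.app (op U) (D.app (op U) _) = _ • D'.app (op U) (D.app (op U) t)
    rw [app_base f n F hD, app_base f n' G hD']
  · exact altSum_comp (B := Γ(X, U)) (D.app (op U)).hom (D'.app (op U)).hom n n'
      (fun b m => altSum_of_isDiffOpLE f n hD U b m)
      (fun b m => altSum_of_isDiffOpLE f n' hD' U b m) a t

theorem isDiffOpLE_dPHom (n : ℕ) (F : X.Modules) :
    PrinPart.IsDiffOpLE f F (PrinPart.PMod f n F) n (PrinPart.dPHom f n F) :=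
  ⟨𝟙 _, fun U t => rfl⟩

end Groth.Agent.H1PP
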