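import Groth.Agent.ExistEasy.PP.PullSec
import Groth.Agent.QCoh.FT
import Groth.Agent.QCoh.Pullback

/-!
# Pullbacks of finitely presented quasi-coherent modules are finitely presented
-/

set_option backward.isDefEq.respectTransparency false
set_option backward.isDefEq.respectTransparency.types false
set_option linter.style.haveILetI false

universe u

open CategoryTheory CategoryTheory.Limits AlgebraicGeometry TopologicalSpace Opposite
open scoped TensorProduct

namespace Groth.Agent.H1PP

open Groth.Agent.QCoh Groth.Agent.ExistEasy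

variable {X X' : Scheme.{u}} {F : X.Modules}

theorem isFP_pullback_of_isQCoh (g' : X' ⟶ X) (hF : Coh.IsQCoh F) (hfp : CohB1.IsFP F) :
    CohB1.IsFP ((Scheme.Modules.pullback g').obj F) := by
  have hU := fun x : X' => exists_isAffineOpen_mem_and_subset (x := g' x) (U := ⊤) trivial
  choose U hU hxU _ using hU
  have hW := fun x : X' => exists_isAffineOpen_mem_and_subset (x := x) (U := g' ⁻¹ᵁ U x) (hxU x)
  choose W hW hxW hle using hW
  refine QCoh.isFP_of_finitePresentation (isQCoh_pullback g' hF) W
    (IsOpenCover.mk (eq_top_iff.2 fun x _ => Opens.mem_iSup.2 ⟨x, hxW x⟩)) hW fun x => ?_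
  letI : Algebra Γ(X, U x) Γ(X', W x) := (g'.appLE (U x) (W x) (hle x)).hom.toAlgebra
  letI : Module Γ(X, U x) Γ((Scheme.Modules.pullback g').obj F, W x) :=
    Module.compHom _ (g'.appLE (U x) (W x) (hle x)).hom
  haveI : IsScalarTower Γ(X, U x) Γ(X', W x) Γ((Scheme.Modules.pullback g').obj F, W x) :=
    ⟨fun a b c => mul_smul ((g'.appLE (U x) (W x) (hle x)).hom a) b c⟩
  obtain ⟨l, -, hb⟩ := exists_pullSec_baseChange g' hF (hW x) (hU x) (hle x)
  haveI := QCoh.finitePresentation_of_isFP hfp (hU x)
  exact Module.FinitePresentation.of_equiv hb.equiv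

end Groth.Agent.H1PP
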