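import Groth.Prelude.Def_OmegaPn

/-!
# Functoriality of infinitesimal neighbourhoods
-/

set_option autoImplicit false
set_option linter.style.haveILetI false

universe u

open CategoryTheory CategoryTheory.Limits AlgebraicGeometry TopologicalSpace Opposite

namespace Groth.Agent.H1PP

variable {Y X Y' X' : Scheme.{u}}

theorem appLE_mem_ker (f : Y ⟶ X) (f' : Y' ⟶ X') [QuasiCompact f'] (v : X' ⟶ X) (u : Y' ⟶ Y)
    (h : f' ≫ v = u ≫ f) (W : X.affineOpens) (W' : X'.affineOpens) (hle : W'.1 ≤ v ⁻¹ᵁ W.1)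
    {x : Γ(X, W.1)} (hx : x ∈ f.ker.ideal W) : v.appLE W.1 W'.1 hle x ∈ f'.ker.ideal W' := by
  have hx' : f.app W.1 x = 0 := RingHom.mem_ker.mp (f.ideal_ker_le W hx)
  have hle2 : f' ⁻¹ᵁ W'.1 ≤ (f' ≫ v) ⁻¹ᵁ W.1 := f'.preimage_mono hle
  rw [Scheme.Hom.ker_apply, RingHom.mem_ker]
  have e1 : f'.app W'.1 (v.appLE W.1 W'.1 hle x) = (f' ≫ v).appLE W.1 (f' ⁻¹ᵁ W'.1) hle2 x := by
    rw [Scheme.Hom.app_eq_appLE, ← CommRingCat.comp_apply, Scheme.Hom.appLE_comp_appLE]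
  have e2 : ∀ (g : Y' ⟶ X) (_ : g = u ≫ f) (h' : f' ⁻¹ᵁ W'.1 ≤ g ⁻¹ᵁ W.1),
      g.appLE W.1 (f' ⁻¹ᵁ W'.1) h' x = 0 := by
    rintro g rfl h'
    rw [Scheme.Hom.comp_appLE, CommRingCat.comp_apply, hx', map_zero]
  exact e1.trans (e2 _ h hle2)

theorem infNbhd_le_ker (f : Y ⟶ X) (f' : Y' ⟶ X') [QuasiCompact f'] (v : X' ⟶ X) (u : Y' ⟶ Y)
    (h : f' ≫ v = u ≫ f) (n : ℕ) :
    f.ker ^ (n + 1) ≤ (PrinPart.infNbhdι f' n ≫ v).ker := by
  refine Scheme.IdealSheafData.le_ofIdeals_iff.mpr ?_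
  intro W x hx
  let ι := PrinPart.infNbhdι f' n
  rw [RingHom.mem_ker]
  show ι.app (v ⁻¹ᵁ W.1) (v.app W.1 x) = 0
  refine TopCat.Presheaf.section_ext (PrinPart.infNbhd f' n).sheaf _ _ _ fun z hz => ?_
  obtain ⟨_, ⟨W', hW', rfl⟩, hzW', hW'le⟩ :=
    X'.isBasis_affineOpens.exists_subset_of_mem_open (show ι z ∈ (v ⁻¹ᵁ W.1 : Set X') from hz) (v ⁻¹ᵁ W.1).isOpen
  have hle : W' ≤ v ⁻¹ᵁ W.1 := hW'le
  have hz' : z ∈ ι ⁻¹ᵁ W' := hzW'
  have hpow : v.appLE W.1 W' hle x ∈ (f'.ker ^ (n + 1)).ideal ⟨W', hW'⟩ := by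
    rw [Scheme.IdealSheafData.ideal_pow, Pi.pow_apply] at hx ⊢
    have hmap : (f.ker.ideal W).map (v.appLE W.1 W' hle).hom ≤ f'.ker.ideal ⟨W', hW'⟩ :=
      Ideal.map_le_iff_le_comap.mpr fun y hy => appLE_mem_ker f f' v u h W ⟨W', hW'⟩ hle hy
    have := Ideal.mem_map_of_mem (v.appLE W.1 W' hle).hom hx
    rw [Ideal.map_pow] at this
    exact Ideal.pow_right_mono hmap _ this
  have h0 : ι.app W' (v.appLE W.1 W' hle x) = 0 := by
    rw [← RingHom.mem_ker]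
    exact ((f'.ker ^ (n + 1)).ker_subschemeι_app ⟨W', hW'⟩).ge hpow
  have h1 : ι.app W' (v.appLE W.1 W' hle x) =
      (PrinPart.infNbhd f' n).presheaf.map (homOfLE (ι.preimage_mono hle)).op (ι.app (v ⁻¹ᵁ W.1) (v.app W.1 x)) := by
    show ι.app W' (X'.presheaf.map (homOfLE hle).op (v.app W.1 x)) = _
    exact congr($(ι.naturality (homOfLE hle).op) (v.app W.1 x))
  rw [h0] at h1
  have h2 := congrArg ((PrinPart.infNbhd f' n).presheaf.germ (ι ⁻¹ᵁ W') z hz') h1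
  erw [TopCat.Presheaf.germ_res_apply, map_zero] at h2
  erw [map_zero]
  exact h2.symm

/-- A commutative square induces a map of infinitesimal neighbourhoods. -/
theorem exists_infNbhd_map (f : Y ⟶ X) (f' : Y' ⟶ X') [QuasiCompact f'] (v : X' ⟶ X) (u : Y' ⟶ Y)
    (h : f' ≫ v = u ≫ f) (n : ℕ) :
    ∃ w : PrinPart.infNbhd f' n ⟶ PrinPart.infNbhd f n,
      w ≫ PrinPart.infNbhdι f n = PrinPart.infNbhdι f' n ≫ v := by
  let ι := (f.ker ^ (n + 1)).subschemeι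
  have hker : ι.ker ≤ (PrinPart.infNbhdι f' n ≫ v).ker := by
    rw [Scheme.IdealSheafData.ker_subschemeι]
    exact infNbhd_le_ker f f' v u h n
  exact ⟨IsClosedImmersion.lift ι _ hker, IsClosedImmersion.lift_fac _ _ _⟩

end Groth.Agent.H1PP
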