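import Groth.Agent.H1PP.Affine
import Groth.Agent.PPLib.PMUniv
import Groth.Agent.QCoh.PullbackBC
import Groth.Agent.QCoh.Qcqs
import Groth.Agent.SheafHomX.Local
import Groth.Agent.OmegaLib.AffineHom

/-!
# Differential operators on global sections of affine schemes come from sheaf operators
-/

set_option autoImplicit false
set_option linter.style.haveILetI false
set_option backward.isDefEq.respectTransparency false
set_option maxHeartbeats 800000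

universe u

open CategoryTheory CategoryTheory.Limits AlgebraicGeometry TopologicalSpace Opposite
open scoped TensorProduct

namespace Groth.Agent.H1PP

theorem exists_of_globalSections {X S : Scheme.{u}} [IsAffine X] [IsAffine S] (f : X ⟶ S)
    (F G : X.Modules) (hF : Coh.IsQCoh F) (k : ℕ)
    [Algebra Γ(S, ⊤) Γ(X, ⊤)] (halg : algebraMap Γ(S, ⊤) Γ(X, ⊤) = f.appTop.hom := by rfl)
    [Module Γ(S, ⊤) Γ(F, ⊤)] [IsScalarTower Γ(S, ⊤) Γ(X, ⊤) Γ(F, ⊤)]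
    [Module Γ(S, ⊤) Γ(G, ⊤)] [IsScalarTower Γ(S, ⊤) Γ(X, ⊤) Γ(G, ⊤)]
    (D' : Γ(F, ⊤) →ₗ[Γ(S, ⊤)] Γ(G, ⊤)) (hD' : Diff16.IsDiffOpLE Γ(S, ⊤) Γ(X, ⊤) Γ(F, ⊤) Γ(G, ⊤) k D') :
    ∃ D : F.presheaf ⟶ G.presheaf, PrinPart.IsDiffOpLE f F G k D ∧
      ∀ m : Γ(F, ⊤), (D.app (op ⊤)).hom m = D' m := by
  let A := Γ(S, ⊤)
  let B := Γ(X, ⊤)
  let W := PrinPart.pr1 f k ⁻¹ᵁ (⊤ : X.Opens)
  let R := Γ(PrinPart.nbhd f k, W)
  have halg' : algebraMap A B = (f.appLE ⊤ ⊤ (le_top : (⊤ : X.Opens) ≤ f ⁻¹ᵁ ⊤)).hom :=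
    halg.trans (congrArg CommRingCat.Hom.hom (Scheme.Hom.app_eq_appLE (f := f) (U := ⊤)))
  obtain ⟨hW, ε, hε1, hε2⟩ := exists_chart_equiv f k ⟨⊤, isAffineOpen_top S⟩ ⟨⊤, isAffineOpen_top X⟩ le_top halg'
  have hle : W ≤ PrinPart.pr2 f k ⁻¹ᵁ ⊤ := (PrinPart.preimage_pr1 f k ⊤).le
  let P₂ := (Scheme.Modules.pullback (PrinPart.pr2 f k)).obj F
  letI : Algebra B R := ((PrinPart.pr2 f k).appLE ⊤ W hle).hom.toAlgebra
  letI : Module B Γ(P₂, W) := Module.compHom _ (algebraMap B R)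
  haveI : IsScalarTower B R Γ(P₂, W) := IsScalarTower.of_algebraMap_smul fun _ _ => rfl
  let l : Γ(F, ⊤) →ₗ[B] Γ(P₂, W) :=
    { toFun := QCoh.pullSec (PrinPart.pr2 f k) F hle
      map_add' := QCoh.pullSec_add _ F hle
      map_smul' := fun r x => QCoh.pullSec_smul _ F hle r x }
  have hbc : IsBaseChange R l :=
    QCoh.isBaseChange_pullback (isAffineOpen_top X) (PrinPart.pr2 f k) hW hF hle (fun _ => rfl) l fun _ => rfl
  letI : Module R (PP16.PM k A B Γ(F, ⊤)) := Module.compHom _ ε.symm.toRingHom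
  haveI : IsScalarTower B R (PP16.PM k A B Γ(F, ⊤)) := IsScalarTower.of_algebraMap_smul fun b x => by
    show ε.symm ((PrinPart.pr2 f k).appLE ⊤ W hle b) • x = b • x
    rw [← hε2 b, RingEquiv.symm_apply_apply]
    refine TensorProduct.induction_on (R := B) x ?_ (fun p m => ?_) (fun x y hx hy => ?_)
    · exact (smul_zero _).trans (smul_zero _).symm
    · rfl
    · exact (smul_add _ x y).trans ((congrArg₂ (· + ·) hx hy).trans (smul_add _ x y).symm)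
  let h : Γ(F, ⊤) →ₗ[B] PP16.PM k A B Γ(F, ⊤) :=
    { toFun := fun m => PP16.dM k A B Γ(F, ⊤) m
      map_add' := fun _ _ => map_add _ _ _
      map_smul' := fun b m => by
        show ((1 : PP16.Pr k A B) ⊗ₜ[B] (b • m) : PP16.PM k A B Γ(F, ⊤)) = b • ((1 : PP16.Pr k A B) ⊗ₜ[B] m)
        rw [TensorProduct.tmul_smul] }
  let L : Γ(P₂, W) →ₗ[R] PP16.PM k A B Γ(F, ⊤) := hbc.lift h
  obtain ⟨u, ⟨hu1, hu2⟩, -⟩ := PPLib.existsUnique_u D' hD'
  let ψ : Γ(PrinPart.PMod f k F, ⊤) →+ Γ(G, ⊤) :=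
    AddMonoidHom.mk' (fun σ => u (L (show Γ(P₂, W) from σ))) fun σ τ => by
      show u (L ((show Γ(P₂, W) from σ) + (show Γ(P₂, W) from τ))) = _
      rw [map_add, map_add]
  have hψ : ∀ (b : B) (σ : Γ(PrinPart.PMod f k F, ⊤)), ψ (b • σ) = b • ψ σ := fun b σ => by
    show u (L ((PrinPart.pr1 f k).app ⊤ b • (show Γ(P₂, W) from σ))) = b • u (L (show Γ(P₂, W) from σ))
    rw [map_smul, ← hu1]
    refine congrArg u ?_
    show ε.symm ((PrinPart.pr1 f k).app ⊤ b) • L (show Γ(P₂, W) from σ) = _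
    rw [← hε1 b, RingEquiv.symm_apply_apply]
  have hq : Coh.IsQCoh (PrinPart.PMod f k F) :=
    QCoh.isQCoh_pushforward (PrinPart.pr1 f k) (QCoh.isQCoh_pullback (PrinPart.pr2 f k) hF)
  obtain ⟨v, hv⟩ := OmegaLib.exists_hom_of_affine (SheafHomX.globLocalized hq) ψ hψ
  refine ⟨PrinPart.dPHom f k F ≫ (Scheme.Modules.toPresheaf X).map v, ⟨v, fun U t => rfl⟩, fun m => ?_⟩
  show v.app ⊤ (PrinPart.dP f k F ⊤ m) = D' m
  rw [hv]
  show u (L (show Γ(P₂, W) from PrinPart.dP f k F ⊤ m)) = _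
  rw [show (show Γ(P₂, W) from PrinPart.dP f k F ⊤ m) = l m from rfl, hbc.lift_eq, ← hu2]
  rfl

end Groth.Agent.H1PP
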