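import Mathlib

/-!
# Powers of an ideal with flat graded pieces stay injective after base change
-/

set_option autoImplicit false
set_option linter.style.haveILetI false

universe u

open scoped TensorProduct

namespace Groth.Agent.H1PP.PowFlat

theorem flat_middle {R K N Q : Type u} [CommRing R] [AddCommGroup K] [Module R K]
    [AddCommGroup N] [Module R N] [AddCommGroup Q] [Module R Q] [Module.Flat R K] [Module.Flat R Q]
    (i : K →ₗ[R] N) (g : N →ₗ[R] Q) (hi : Function.Injective i) (hg : Function.Surjective g)
    (h : Function.Exact i g) : Module.Flat R N := by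
  rw [Module.Flat.iff_rTensor_injective']
  intro J
  rw [injective_iff_map_eq_zero]
  intro x hx
  have h1 : g.lTensor J x = 0 := by
    refine Module.Flat.rTensor_preserves_injective_linearMap (M := Q) J.subtype J.injective_subtype ?_
    rw [map_zero, ← LinearMap.comp_apply, LinearMap.rTensor_comp_lTensor,
      ← LinearMap.lTensor_comp_rTensor, LinearMap.comp_apply, hx, map_zero]
  obtain ⟨y, rfl⟩ := (lTensor_exact J h hg x).mp h1
  rw [← LinearMap.comp_apply, LinearMap.rTensor_comp_lTensor, ← LinearMap.lTensor_comp_rTensor,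
    LinearMap.comp_apply] at hx
  have h2 : J.subtype.rTensor K y = 0 := by
    refine Module.Flat.lTensor_preserves_injective_linearMap (M := R) i hi ?_
    rw [hx, map_zero]
  rw [Module.Flat.rTensor_preserves_injective_linearMap (M := K) J.subtype J.injective_subtype
    (h2.trans (map_zero _).symm), map_zero]

variable {A B T : Type u} [CommRing A] [CommRing B] [CommRing T] [Algebra A B] [Algebra A T] [Algebra B T]
  [IsScalarTower A B T]

theorem flat_quot_smul (hsurj : Function.Surjective (algebraMap B T))
    (hbij : Function.Bijective (algebraMap A T)) (M : Type u) [AddCommGroup M] [Module B M] [Module A M]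
    [IsScalarTower A B M] (h : Module.Flat T (T ⊗[B] M)) :
    Module.Flat A (M ⧸ (RingHom.ker (algebraMap B T) • ⊤ : Submodule B M)) := by
  haveI : Module.Flat A T := Module.Flat.of_linearEquiv
    ((LinearEquiv.ofBijective (Algebra.linearMap A T) hbij).symm)
  haveI : Module.Flat A (T ⊗[B] M) := Module.Flat.trans A T _
  let e0 : (B ⧸ RingHom.ker (algebraMap B T)) ≃ₐ[B] T :=
    Ideal.quotientKerAlgEquivOfSurjective (f := Algebra.ofId B T) hsurj
  let e : T ⊗[B] M ≃ₗ[B] M ⧸ (RingHom.ker (algebraMap B T) • ⊤ : Submodule B M) :=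
    (TensorProduct.congr e0.symm.toLinearEquiv (LinearEquiv.refl B M)).trans
      (TensorProduct.quotTensorEquivQuotSMul M _)
  exact Module.Flat.of_linearEquiv (e.restrictScalars A).symm

theorem flat_quot_pow (I : Ideal B) (n : ℕ)
    (h : ∀ k < n, Module.Flat A (↥(I ^ k) ⧸ (I • ⊤ : Submodule B ↥(I ^ k)))) :
    Module.Flat A (B ⧸ I ^ n) := by
  induction n with
  | zero =>
    haveI : Subsingleton (B ⧸ I ^ 0) := Ideal.Quotient.subsingleton_iff.mpr (by simp)
    infer_instance
  | succ n ih =>
    haveI := ih fun k hk => h k (hk.trans n.lt_succ_self)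
    haveI := h n n.lt_succ_self
    let i₀ : ↥(I ^ n) →ₗ[B] B ⧸ I ^ (n + 1) := (Submodule.mkQ (I ^ (n + 1))).comp (I ^ n).subtype
    have hker : LinearMap.ker i₀ = (I • ⊤ : Submodule B ↥(I ^ n)) := by
      have hm : Submodule.map (I ^ n).subtype (I • ⊤ : Submodule B ↥(I ^ n)) = I ^ (n + 1) := by
        rw [Submodule.map_smul'', Submodule.map_top, Submodule.range_subtype, smul_eq_mul, pow_succ']
      rw [LinearMap.ker_comp, Submodule.ker_mkQ, ← hm,
        Submodule.comap_map_eq_of_injective (I ^ n).injective_subtype]
    let i : (↥(I ^ n) ⧸ (I • ⊤ : Submodule B ↥(I ^ n))) →ₗ[B] B ⧸ I ^ (n + 1) :=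
      Submodule.liftQ _ i₀ hker.ge
    let g : (B ⧸ I ^ (n + 1)) →ₗ[B] B ⧸ I ^ n :=
      Submodule.factor (Ideal.pow_le_pow_right n.le_succ)
    have hi : Function.Injective i := by
      rw [← LinearMap.ker_eq_bot]
      exact Submodule.ker_liftQ_eq_bot _ _ _ hker.le
    have hg : Function.Surjective g := Submodule.factor_surjective _
    have hex : Function.Exact i g := by
      rw [LinearMap.exact_iff, Submodule.range_liftQ, LinearMap.range_comp, Submodule.range_subtype]
      show LinearMap.ker (Submodule.liftQ _ (Submodule.mkQ (I ^ n)) _) = _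
      rw [Submodule.ker_liftQ, Submodule.ker_mkQ]
    exact flat_middle (i.restrictScalars A) (g.restrictScalars A) hi hg hex

set_option synthInstance.maxHeartbeats 200000 in
theorem injective_baseChange {A' B' : Type u} [CommRing A'] [CommRing B'] [Algebra A A'] [Algebra A' B']
    [Algebra B B'] [Algebra A B'] [IsScalarTower A A' B'] [IsScalarTower A B B']
    [Algebra.IsPushout A A' B B'] (J : Ideal B) [Module.Flat A (B ⧸ J)] :
    Function.Injective (J.subtype.baseChange B') := by
  let e₁ := Algebra.IsPushout.cancelBaseChange A A' B B' ↥J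
  let e₂ := Algebra.IsPushout.cancelBaseChange A A' B B' B
  have hinj : Function.Injective ((J.subtype.restrictScalars A).baseChange A') :=
    LinearMap.lTensor_injective_of_exact_of_flat ((Submodule.mkQ J).restrictScalars A)
      (Submodule.mkQ_surjective J) (J.subtype.restrictScalars A) J.injective_subtype
      (LinearMap.exact_subtype_mkQ J) A'
  have hc : ∀ x, J.subtype.baseChange B' (e₁.symm x) =
      e₂.symm ((J.subtype.restrictScalars A).baseChange A' x) := by
    intro x
    induction x using TensorProduct.induction_on with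
    | zero => simp
    | tmul r m => simp [e₁, e₂]
    | add a b ha hb => simp only [map_add, ha, hb]
  intro a b hab
  obtain ⟨a, rfl⟩ := e₁.symm.surjective a
  obtain ⟨b, rfl⟩ := e₁.symm.surjective b
  rw [hc, hc] at hab
  rw [hinj (e₂.symm.injective hab)]

end Groth.Agent.H1PP.PowFlat
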