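import Groth.Agent.H1PP.GrMap
import Groth.Agent.H1PP.PowFlat
import Groth.Agent.QCoh.Stalk
import Groth.Prelude.Def_FlatMod2

/-!
# Graded pieces of sections and base change
-/

set_option autoImplicit false
set_option backward.isDefEq.respectTransparency false
set_option backward.isDefEq.respectTransparency.types false
set_option linter.style.haveILetI false

universe u

open CategoryTheory CategoryTheory.Limits AlgebraicGeometry TopologicalSpace Opposite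
open scoped TensorProduct

namespace Groth.Agent.H1PP.GrMap

theorem isPullback_section {X Y X' Y' : Scheme.{u}} {g : X ⟶ Y} {f : Y ⟶ X} (hf : f ≫ g = 𝟙 Y)
    {u : Y' ⟶ Y} {v : X' ⟶ X} {g' : X' ⟶ Y'} (hsq : IsPullback v g' g u) {f' : Y' ⟶ X'}
    (hf' : f' ≫ g' = 𝟙 Y') (hf'v : f' ≫ v = u ≫ f) : IsPullback u f' f v := by
  refine IsPullback.of_bot ?_ hf'v.symm hsq
  rw [hf, hf']
  exact IsPullback.of_vert_isIso ⟨by simp⟩

theorem flat_tensor_pow {X Y : Scheme.{u}} (f : Y ⟶ X) [IsClosedImmersion f] (W : X.affineOpens) (k : ℕ)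
    (h : k = 0 ∨ FlatMod.IsFlat (PrinPart.grMod f k)) :
    letI := (f.appLE W.1 (f ⁻¹ᵁ W.1) le_rfl).hom.toAlgebra
    Module.Flat Γ(Y, f ⁻¹ᵁ W.1) (Γ(Y, f ⁻¹ᵁ W.1) ⊗[Γ(X, W.1)] ↥((f.ker.ideal W) ^ k)) := by
  letI alg := (f.appLE W.1 (f ⁻¹ᵁ W.1) le_rfl).hom.toAlgebra
  rcases h with rfl | h
  · have e : ↥((f.ker.ideal W) ^ 0) ≃ₗ[Γ(X, W.1)] Γ(X, W.1) :=
      (LinearEquiv.ofEq _ _ (by rw [pow_zero, Ideal.one_eq_top])).trans Submodule.topEquiv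
    haveI : Module.Free Γ(X, W.1) ↥((f.ker.ideal W) ^ 0) := Module.Free.of_equiv e.symm
    infer_instance
  · letI : Module Γ(X, W.1) Γ((Scheme.Modules.pullback f).obj (ClSub.idealMod (f.ker ^ k)), f ⁻¹ᵁ W.1) :=
      Module.compHom _ (f.appLE W.1 (f ⁻¹ᵁ W.1) le_rfl).hom
    haveI : IsScalarTower Γ(X, W.1) Γ(Y, f ⁻¹ᵁ W.1)
        Γ((Scheme.Modules.pullback f).obj (ClSub.idealMod (f.ker ^ k)), f ⁻¹ᵁ W.1) :=
      ⟨fun a b c => mul_smul _ b c⟩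
    obtain ⟨g1, hg1, hb1⟩ := ExistEasy.exists_pullSec_baseChange f (isQCoh_idealMod (f.ker ^ k))
      (W.2.preimage f) W.2 (le_refl (f ⁻¹ᵁ W.1))
    haveI : Module.Flat Γ(Y, f ⁻¹ᵁ W.1) Γ((Scheme.Modules.pullback f).obj (ClSub.idealMod (f.ker ^ k)), f ⁻¹ᵁ W.1) :=
      (QCoh.flat_sections_iff (isQCoh_grMod f k) (W.2.preimage f)).2 fun y _ => h y
    have hI : (f.ker ^ k).ideal W = f.ker.ideal W ^ k := by
      rw [Scheme.IdealSheafData.ideal_pow, Pi.pow_apply]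
    let w : Γ(ClSub.idealMod (f.ker ^ k), W.1) →ₗ[Γ(X, W.1)] ↥((f.ker ^ k).ideal W) :=
      { toFun := fun m => ⟨OmegaSh.idealSect _ W.1 m, OmegaLib.idealSect_mem _ W m⟩
        map_add' := fun a b => Subtype.ext (map_add _ a b)
        map_smul' := fun r m => Subtype.ext (OmegaLib.idealSect_smul _ W.1 r m) }
    have hw : Function.Bijective w :=
      ⟨fun a b h => OmegaLib.idealSect_injective _ W.1 (congrArg Subtype.val h),
        fun x => (OmegaLib.exists_of_mem _ W x.1 x.2).imp fun m hm => Subtype.ext hm⟩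
    exact Module.Flat.of_linearEquiv
      ((LinearEquiv.baseChange Γ(X, W.1) Γ(Y, f ⁻¹ᵁ W.1) _ _
        ((LinearEquiv.ofBijective w hw).trans (LinearEquiv.ofEq _ _ hI))).symm.trans hb1.equiv)

theorem appLE_congr {X Y : Scheme.{u}} {a b : X ⟶ Y} (h : a = b) {U : Y.Opens} {V : X.Opens}
    (ea : V ≤ a ⁻¹ᵁ U) (eb : V ≤ b ⁻¹ᵁ U) : a.appLE U V ea = b.appLE U V eb := by
  subst h; rfl

/-- The graded pieces of a section commute with base change when the lower ones are flat. -/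
theorem isIso_of_section {X Y X' Y' : Scheme.{u}} (g : X ⟶ Y) (f : Y ⟶ X)
    [IsClosedImmersion f] (hf : f ≫ g = 𝟙 Y) (u : Y' ⟶ Y) (v : X' ⟶ X) (g' : X' ⟶ Y')
    (hsq : IsPullback v g' g u) (f' : Y' ⟶ X') (hf' : f' ≫ g' = 𝟙 Y') (hf'v : f' ≫ v = u ≫ f)
    (n : ℕ) (hflat : ∀ k < n, k = 0 ∨ FlatMod.IsFlat (PrinPart.grMod f k))
    (φ : (Scheme.Modules.pullback u).obj (PrinPart.grMod f n) ⟶ PrinPart.grMod f' n)
    (hφ : PrinPart.IsGrMap f' f v u n φ) : IsIso φ := by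
  have hpb := isPullback_section hf hsq hf' hf'v
  haveI : IsClosedImmersion f' := MorphismProperty.of_isPullback hpb ‹_›
  refine isIso_of_injective hφ (ker_eq_comap hpb) fun y' => ?_
  obtain ⟨V0, hV0, hyV0, -⟩ := exists_isAffineOpen_mem_and_subset (x := u y') (U := ⊤) trivial
  obtain ⟨W0, hW0, hfyW0, hW0V0⟩ := exists_isAffineOpen_mem_and_subset (x := f (u y')) (U := g ⁻¹ᵁ V0)
    (by show (f ≫ g) (u y') ∈ V0; rw [hf]; exact hyV0)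
  have hle0 : W0 ≤ g ⁻¹ᵁ V0 := hW0V0
  obtain ⟨a, haV, hya⟩ := hV0.exists_basicOpen_le (V := V0 ⊓ f ⁻¹ᵁ W0) ⟨u y', hyV0, hfyW0⟩ hyV0
  let W : X.affineOpens := ⟨X.basicOpen (g.appLE V0 W0 hle0 a), hW0.basicOpen _⟩
  let V : Y.affineOpens := ⟨Y.basicOpen a, hV0.basicOpen a⟩
  have hWeq : W.1 = W0 ⊓ g ⁻¹ᵁ V.1 := Scheme.basicOpen_appLE g W0 V0 hle0 a
  have hWV : W.1 ≤ g ⁻¹ᵁ V.1 := hWeq.le.trans inf_le_right
  have hgf : ∀ z, g (f z) = z := fun z => by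
    rw [← Scheme.Hom.comp_apply, hf]; rfl
  have hfW : f ⁻¹ᵁ W.1 = V.1 := by
    apply le_antisymm
    · intro z hz
      have h : g (f z) ∈ V.1 := hWV hz
      rwa [hgf] at h
    · intro z hz
      exact hWeq.ge ⟨(haV hz).2, show g (f z) ∈ V.1 by rwa [hgf]⟩
  obtain ⟨V', hV', hy'V', hV'le⟩ := exists_isAffineOpen_mem_and_subset (x := y') (U := u ⁻¹ᵁ V.1) hya
  have hle' : V' ≤ u ⁻¹ᵁ V.1 := hV'le
  have hW'aff : IsAffineOpen (v ⁻¹ᵁ W.1 ⊓ g' ⁻¹ᵁ V') := by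
    have : IsAffine _ := V.2
    have : IsAffine _ := W.2
    have : IsAffine _ := hV'
    exact .of_isIso (Scheme.Hom.isPullback_resLE hsq hle' hWV rfl).isoPullback.hom
  let W' : X'.affineOpens := ⟨_, hW'aff⟩
  have hle : W'.1 ≤ v ⁻¹ᵁ W.1 := inf_le_left
  have hle2 : W'.1 ≤ g' ⁻¹ᵁ V' := inf_le_right
  refine ⟨W, W', hle, ⟨?_, ?_⟩, ?_⟩
  · show v (f' y') ∈ W.1
    rw [← Scheme.Hom.comp_apply, hf'v, Scheme.Hom.comp_apply]
    exact hfW.ge hya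
  · show g' (f' y') ∈ V'
    rw [← Scheme.Hom.comp_apply, hf']
    exact hy'V'
  letI i1 : Algebra Γ(X, W.1) Γ(X', W'.1) := (v.appLE W.1 W'.1 hle).hom.toAlgebra
  letI i2 : Algebra Γ(Y, V.1) Γ(Y', V') := (u.appLE V.1 V' hle').hom.toAlgebra
  letI i3 : Algebra Γ(Y', V') Γ(X', W'.1) := (g'.appLE V' W'.1 hle2).hom.toAlgebra
  letI i4 : Algebra Γ(Y, V.1) Γ(X, W.1) := (g.appLE V.1 W.1 hWV).hom.toAlgebra
  letI i5 : Algebra Γ(Y, V.1) Γ(X', W'.1) := ((algebraMap Γ(X, W.1) Γ(X', W'.1)).comp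
    (algebraMap Γ(Y, V.1) Γ(X, W.1))).toAlgebra
  haveI t1 : IsScalarTower Γ(Y, V.1) Γ(X, W.1) Γ(X', W'.1) := .of_algebraMap_eq fun _ => rfl
  have hsqle : g.appLE V.1 W.1 hWV ≫ v.appLE W.1 W'.1 hle = u.appLE V.1 V' hle' ≫ g'.appLE V' W'.1 hle2 := by
    rw [Scheme.Hom.appLE_comp_appLE, Scheme.Hom.appLE_comp_appLE]
    exact appLE_congr hsq.w _ _
  haveI t2 : IsScalarTower Γ(Y, V.1) Γ(Y', V') Γ(X', W'.1) := .of_algebraMap_eq fun c => congr($hsqle c)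
  haveI hpo : Algebra.IsPushout Γ(Y, V.1) Γ(Y', V') Γ(X, W.1) Γ(X', W'.1) := by
    refine Algebra.IsPushout.symm (CommRingCat.isPushout_iff_isPushout.mp ?_)
    have := (isIso_pushoutSection_iff hsq hle' hWV rfl).mp
      (isIso_pushoutSection_of_isAffineOpen hsq hle' hWV rfl V.2 hV' W.2)
    exact this
  letI i6 : Algebra Γ(X, W.1) Γ(Y, f ⁻¹ᵁ W.1) := (f.appLE W.1 (f ⁻¹ᵁ W.1) le_rfl).hom.toAlgebra
  letI i7 : Algebra Γ(Y, V.1) Γ(Y, f ⁻¹ᵁ W.1) := ((algebraMap Γ(X, W.1) Γ(Y, f ⁻¹ᵁ W.1)).comp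
    (algebraMap Γ(Y, V.1) Γ(X, W.1))).toAlgebra
  haveI t3 : IsScalarTower Γ(Y, V.1) Γ(X, W.1) Γ(Y, f ⁻¹ᵁ W.1) := .of_algebraMap_eq fun _ => rfl
  have hbij : Function.Bijective (algebraMap Γ(Y, V.1) Γ(Y, f ⁻¹ᵁ W.1)) := by
    have h1 : g.appLE V.1 W.1 hWV ≫ f.appLE W.1 (f ⁻¹ᵁ W.1) le_rfl =
        (𝟙 Y : Y ⟶ Y).appLE V.1 (f ⁻¹ᵁ W.1) hfW.le := by
      rw [Scheme.Hom.appLE_comp_appLE]
      exact appLE_congr hf _ _
    have h2 : IsIso ((𝟙 Y : Y ⟶ Y).appLE V.1 (f ⁻¹ᵁ W.1) hfW.le) := by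
      rw [Scheme.Hom.appLE, Scheme.Hom.id_app, Category.id_comp]
      haveI : IsIso (homOfLE hfW.le) := ⟨homOfLE hfW.ge, rfl, rfl⟩
      exact inferInstanceAs (IsIso (Y.presheaf.map (homOfLE hfW.le).op))
    have h3 := ConcreteCategory.bijective_of_isIso ((𝟙 Y : Y ⟶ Y).appLE V.1 (f ⁻¹ᵁ W.1) hfW.le)
    rw [← h1] at h3
    exact h3
  have hsurj : Function.Surjective (algebraMap Γ(X, W.1) Γ(Y, f ⁻¹ᵁ W.1)) :=
    Function.Surjective.of_comp (g := algebraMap Γ(Y, V.1) Γ(X, W.1)) hbij.2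
  have hker : f.ker.ideal W = RingHom.ker (algebraMap Γ(X, W.1) Γ(Y, f ⁻¹ᵁ W.1)) := by
    rw [Scheme.Hom.ker_apply, Scheme.Hom.app_eq_appLE]
    rfl
  haveI : Module.Flat Γ(Y, V.1) (Γ(X, W.1) ⧸ f.ker.ideal W ^ n) :=
    PowFlat.flat_quot_pow _ n fun k hk => by
      have h := PowFlat.flat_quot_smul (A := Γ(Y, V.1)) hsurj hbij ↥(f.ker.ideal W ^ k)
        (flat_tensor_pow f W k (hflat k hk))
      rwa [← hker] at h
  have hI : (f.ker ^ n).ideal W = f.ker.ideal W ^ n := by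
    rw [Scheme.IdealSheafData.ideal_pow, Pi.pow_apply]
  rw [hI]
  exact PowFlat.injective_baseChange (A := Γ(Y, V.1)) (A' := Γ(Y', V')) (f.ker.ideal W ^ n)

end Groth.Agent.H1PP.GrMap
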