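import Groth.Agent.H1PP.Affine
import Groth.Agent.H1PP.Basic
import Groth.Agent.H23.PullPush
import Groth.Agent.QCoh.Qcqs
import Groth.Agent.QCoh.Pullback
import Groth.Agent.PnCoh.Unit
import Mathlib

/-!
# Sections of the sheaf of principal parts over affine charts
-/

set_option autoImplicit false
set_option backward.isDefEq.respectTransparency false
set_option linter.style.haveILetI false

universe u

open CategoryTheory CategoryTheory.Limits AlgebraicGeometry TopologicalSpace Opposite
open scoped TensorProduct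

namespace Groth.Agent.H1PP

variable {X S : Scheme.{u}} (f : X ⟶ S) (n : ℕ)

theorem isQCoh_P : Coh.IsQCoh (PrinPart.P f n) :=
  QCoh.isQCoh_pushforward (PrinPart.pr1 f n) (QCoh.isQCoh_pullback _ (PnCoh.isQCoh_structureModule X))

/-- Sections of `P^n` over an affine chart are the principal parts of rings. -/
theorem exists_P_equiv (V : S.affineOpens) (U : X.affineOpens) (e : U.1 ≤ f ⁻¹ᵁ V.1)
    [Algebra Γ(S, V.1) Γ(X, U.1)] (halg : algebraMap Γ(S, V.1) Γ(X, U.1) = (f.appLE V.1 U.1 e).hom) :
    ∃ E : Γ(PrinPart.P f n, U.1) ≃ₗ[Γ(X, U.1)] PP16.P n Γ(S, V.1) Γ(X, U.1),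
      ∀ b, E (PrinPart.dn f n U.1 b) = PP16.dn n Γ(S, V.1) Γ(X, U.1) b := by
  let φ := (PrinPart.pr2 f n).toRingCatSheafHom
  let τ : (Scheme.Modules.pullback (PrinPart.pr2 f n)).obj (Coh.structureModule X) ⟶
      Coh.structureModule (PrinPart.nbhd f n) := SheafOfModules.pullbackObjUnitToUnit φ
  have hτ : IsIso τ := inferInstanceAs (IsIso (SheafOfModules.pullbackObjUnitToUnit φ))
  obtain ⟨-, ε, hε1, hε2⟩ := exists_chart_equiv f n V U e halg
  let W := PrinPart.pr1 f n ⁻¹ᵁ U.1
  have hlin : ∀ (r : Γ(X, U.1)) (σ : Γ(PrinPart.P f n, U.1)),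
      τ.app W (toPull f n (Coh.structureModule X) U.1 (r • σ)) =
        p1 f n U.1 r • τ.app W (toPull f n (Coh.structureModule X) U.1 σ) := fun r σ => by
    show τ.app W (p1 f n U.1 r • toPull f n (Coh.structureModule X) U.1 σ) = _
    rw [Scheme.Modules.Hom.app_smul]
  let l : Γ(PrinPart.P f n, U.1) →ₗ[Γ(X, U.1)] PP16.P n Γ(S, V.1) Γ(X, U.1) :=
    { toFun := fun σ => ε.symm (τ.app W (toPull f n (Coh.structureModule X) U.1 σ))
      map_add' := fun x y => (congrArg ε.symm (map_add (τ.app W).hom _ _)).trans (map_add ε.symm _ _)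
      map_smul' := fun r x => by
        rw [hlin, RingHom.id_apply, Algebra.smul_def]
        show ε.symm (p1 f n U.1 r * _) = _
        rw [map_mul]
        congr 1
        exact ε.symm_apply_eq.mpr (hε1 r).symm }
  have hb : Function.Bijective l :=
    ε.symm.bijective.comp (ConcreteCategory.bijective_of_isIso (τ.app W))
  refine ⟨LinearEquiv.ofBijective l hb, fun b => ε.symm_apply_eq.mpr ?_⟩
  rw [hε2]
  have h : (Scheme.Modules.pullbackPushforwardAdjunction (PrinPart.pr2 f n)).unit.app (Coh.structureModule X) ≫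
      (Scheme.Modules.pushforward (PrinPart.pr2 f n)).map τ = SheafOfModules.unitToPushforwardObjUnit φ :=
    (Adjunction.homEquiv_unit (Scheme.Modules.pullbackPushforwardAdjunction (PrinPart.pr2 f n)) _ _ τ).symm.trans
      (SheafOfModules.pullbackPushforwardAdjunction_homEquiv_pullbackObjUnitToUnit φ)
  have hη : τ.app (PrinPart.pr2 f n ⁻¹ᵁ U.1)
      (OmegaSh.pullSect (PrinPart.pr2 f n) (Coh.structureModule X) U.1 (OmegaSh.strSect X U.1 b)) =
      OmegaSh.strSect _ _ ((PrinPart.pr2 f n).app U.1 b) :=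
    congr($(congrArg (fun k => Scheme.Modules.Hom.app k U.1) h) (OmegaSh.strSect X U.1 b))
  refine Eq.trans (congr($((Scheme.Modules.Hom.mapPresheaf τ).naturality
    (homOfLE (PrinPart.preimage_pr1 f n U.1).le).op)
    (OmegaSh.pullSect (PrinPart.pr2 f n) (Coh.structureModule X) U.1 (OmegaSh.strSect X U.1 b)))) ?_
  exact congrArg ((Coh.structureModule (PrinPart.nbhd f n)).presheaf.map
    (homOfLE (PrinPart.preimage_pr1 f n U.1).le).op) hη

end Groth.Agent.H1PP
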