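import Groth.Agent.H1PP.Basic
import Groth.Agent.PPLib.Basic
import Mathlib

/-!
# The local rings of the neighbourhoods of the diagonal map to the principal parts of the local rings
-/

set_option autoImplicit false
set_option linter.style.haveILetI false

universe u

open CategoryTheory CategoryTheory.Limits AlgebraicGeometry TopologicalSpace Opposite
open scoped TensorProduct

namespace Groth.Agent.H1PP

variable {X S : Scheme.{u}} (f : X ⟶ S) (n : ℕ) (z : PrinPart.nbhd f n)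

/-- The point of `X` under `z`. -/
noncomputable abbrev pt : X := PrinPart.pr2 f n z

theorem pr1_pt : PrinPart.pr1 f n z = pt f n z := PrinPart.pr1_apply f n z

/-- the local ring of `X` -/
noncomputable abbrev RB : Type u := X.presheaf.stalk (pt f n z)

/-- the local ring of `S` -/
noncomputable abbrev RA : Type u := S.presheaf.stalk (f (pt f n z))

noncomputable instance algRAB : Algebra (RA f n z) (RB f n z) := (f.stalkMap (pt f n z)).hom.toAlgebra

/-- left germs -/
noncomputable def p1s : RB f n z →+* (PrinPart.nbhd f n).presheaf.stalk z :=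
  ((PrinPart.pr1 f n).stalkMap z).hom.comp
    (X.presheaf.stalkSpecializes (specializes_of_eq (pr1_pt f n z))).hom

/-- right germs -/
noncomputable abbrev p2s : RB f n z →+* (PrinPart.nbhd f n).presheaf.stalk z :=
  ((PrinPart.pr2 f n).stalkMap z).hom

theorem p1s_germ (U : X.Opens) (hz : z ∈ PrinPart.pr1 f n ⁻¹ᵁ U) (hy : pt f n z ∈ U) (a : Γ(X, U)) :
    p1s f n z (X.presheaf.germ U (pt f n z) hy a) =
      (PrinPart.nbhd f n).presheaf.germ (PrinPart.pr1 f n ⁻¹ᵁ U) z hz (p1 f n U a) := by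
  show (PrinPart.pr1 f n).stalkMap z (X.presheaf.stalkSpecializes _ (X.presheaf.germ U _ hy a)) = _
  rw [TopCat.Presheaf.germ_stalkSpecializes_apply]
  exact Scheme.Hom.germ_stalkMap_apply (PrinPart.pr1 f n) U z hz a

theorem p2s_germ (U : X.Opens) (hz : z ∈ PrinPart.pr1 f n ⁻¹ᵁ U) (hy : pt f n z ∈ U) (a : Γ(X, U)) :
    p2s f n z (X.presheaf.germ U (pt f n z) hy a) =
      (PrinPart.nbhd f n).presheaf.germ (PrinPart.pr1 f n ⁻¹ᵁ U) z hz (p2 f n U a) :=
  (PPSheaf.germ_appLE_stalkMap (PrinPart.pr2 f n) U _ (PrinPart.preimage_pr1 f n U).le z hz a).symm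

/-- The map from the local ring of the neighbourhood to the principal parts of the local rings. -/
theorem exists_theta :
    ∃ Θ : (PrinPart.nbhd f n).presheaf.stalk z →+* PP16.P n (RA f n z) (RB f n z),
      (∀ b, Θ (p1s f n z b) = algebraMap (RB f n z) (PP16.P n (RA f n z) (RB f n z)) b) ∧
      (∀ b, Θ (p2s f n z b) = PP16.dn n (RA f n z) (RB f n z) b) := by
  obtain ⟨V, U, hyU, e⟩ := PPSheaf.exists_affine_pair f (pt f n z)
  have hz : z ∈ PrinPart.pr1 f n ⁻¹ᵁ U.1 := show PrinPart.pr1 f n z ∈ U.1 by rw [pr1_pt]; exact hyU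
  have hsV : f (pt f n z) ∈ V.1 := e hyU
  letI alg0 : Algebra Γ(S, V.1) Γ(X, U.1) := (f.appLE V.1 U.1 e).hom.toAlgebra
  obtain ⟨hZu, ψ, hsurj, hker, hl, hr⟩ := PPSheaf.exists_chart f V U e n rfl
  letI algA : Algebra Γ(S, V.1) (RA f n z) := (S.presheaf.germ V.1 _ hsV).hom.toAlgebra
  letI algB : Algebra Γ(X, U.1) (RB f n z) := X.presheaf.algebra_section_stalk (U := U.1) ⟨_, hyU⟩
  letI algAB : Algebra Γ(S, V.1) (RB f n z) :=
    ((algebraMap Γ(X, U.1) (RB f n z)).comp (algebraMap Γ(S, V.1) Γ(X, U.1))).toAlgebra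
  haveI : IsScalarTower Γ(S, V.1) Γ(X, U.1) (RB f n z) := IsScalarTower.of_algebraMap_eq fun _ => rfl
  haveI : IsScalarTower Γ(S, V.1) (RA f n z) (RB f n z) := IsScalarTower.of_algebraMap_eq fun c => by
    show X.presheaf.germ U.1 _ hyU (f.appLE V.1 U.1 e c) = f.stalkMap _ (S.presheaf.germ V.1 _ hsV c)
    exact PPSheaf.germ_appLE_stalkMap f V.1 U.1 e _ hyU c
  let μ := PP16.map n Γ(S, V.1) Γ(X, U.1) (RA f n z) (RB f n z)
  let eq := ((Ideal.quotEquivOfEq hker.symm).trans (RingHom.quotientKerEquivOfSurjective hsurj))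
  let γ : Γ(PrinPart.nbhd f n, PrinPart.pr1 f n ⁻¹ᵁ U.1) →+* PP16.P n (RA f n z) (RB f n z) :=
    μ.toRingHom.comp eq.symm.toRingHom
  have hγψ : ∀ t, γ (ψ t) = μ (Ideal.Quotient.mk _ t) := by
    intro t
    show μ (eq.symm (ψ t)) = _
    congr 1
    rw [RingEquiv.symm_apply_eq]
    rfl
  have hγ1 : ∀ a, γ (p1 f n U.1 a) = algebraMap (RB f n z) _ (X.presheaf.germ U.1 _ hyU a) := fun a => by
    rw [show p1 f n U.1 a = ψ (a ⊗ₜ 1) from (hl a).symm, hγψ]
    exact PP16.map_algebraMap n Γ(S, V.1) Γ(X, U.1) (RA f n z) (RB f n z) a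
  have hγ2 : ∀ a, γ (p2 f n U.1 a) = PP16.dn n (RA f n z) (RB f n z) (X.presheaf.germ U.1 _ hyU a) := fun a => by
    rw [show p2 f n U.1 a = ψ (1 ⊗ₜ a) from (hr a).symm, hγψ]
    exact PP16.map_dn n Γ(S, V.1) Γ(X, U.1) (RA f n z) (RB f n z) a
  letI := (PrinPart.nbhd f n).presheaf.algebra_section_stalk (U := PrinPart.pr1 f n ⁻¹ᵁ U.1) ⟨z, hz⟩
  haveI hloc := hZu.isLocalization_stalk ⟨z, hz⟩
  have hunit : ∀ w : (hZu.primeIdealOf ⟨z, hz⟩).asIdeal.primeCompl, IsUnit (γ w) := by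
    intro w
    obtain ⟨t, ht⟩ := hsurj w.1
    have hwu : IsUnit ((PrinPart.nbhd f n).presheaf.germ _ z hz (ψ t)) := by
      rw [ht]; exact IsLocalization.map_units ((PrinPart.nbhd f n).presheaf.stalk z) w
    rw [← ht]
    set m := Algebra.TensorProduct.lmul' Γ(S, V.1) t with hm
    have hi : t - m ⊗ₜ 1 ∈ KaehlerDifferential.ideal Γ(S, V.1) Γ(X, U.1) := by
      rw [KaehlerDifferential.ideal, RingHom.mem_ker]
      show Algebra.TensorProduct.lmul' Γ(S, V.1) _ = 0
      simp [m]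
    have hnil : IsNilpotent (ψ (t - m ⊗ₜ 1)) := ⟨n + 1, by
      rw [← map_pow, ← RingHom.mem_ker, hker]; exact Ideal.pow_mem_pow hi (n + 1)⟩
    have hm1 : IsUnit ((PrinPart.nbhd f n).presheaf.germ _ z hz (p1 f n U.1 m)) := by
      have h := (hnil.map ((PrinPart.nbhd f n).presheaf.germ _ z hz).hom).neg.isUnit_add_left_of_commute hwu
        (Commute.all _ _)
      rw [map_sub, map_sub, neg_sub, add_sub_cancel, hl] at h
      exact h
    rw [← p1s_germ f n z U.1 hz hyU] at hm1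
    have hm2 : IsUnit (X.presheaf.germ U.1 _ hyU m) := by
      unfold p1s at hm1
      rw [RingHom.comp_apply] at hm1
      have h3 := isUnit_of_map_unit _ _ hm1
      rw [TopCat.Presheaf.germ_stalkSpecializes_apply] at h3
      have hmem : PrinPart.pr1 f n z ∈ X.basicOpen m := (X.mem_basicOpen m _ _).mpr h3
      rw [pr1_pt] at hmem
      exact (X.mem_basicOpen m _ hyU).mp hmem
    have h4 : IsUnit (γ (p1 f n U.1 m)) := by rw [hγ1]; exact hm2.map _
    have h5 : γ (ψ t) = γ (p1 f n U.1 m) + γ (ψ (t - m ⊗ₜ 1)) := by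
      rw [← map_add, map_sub, hl, add_sub_cancel]
    rw [h5]
    exact (hnil.map γ).isUnit_add_left_of_commute h4 (Commute.all _ _)
  let Θ : (PrinPart.nbhd f n).presheaf.stalk z →+* PP16.P n (RA f n z) (RB f n z) :=
    IsLocalization.lift (S := (PrinPart.nbhd f n).presheaf.stalk z) hunit
  have hΘ : ∀ w, Θ ((PrinPart.nbhd f n).presheaf.germ _ z hz w) = γ w := fun w => IsLocalization.lift_eq _ w
  haveI hlocB := U.2.isLocalization_stalk ⟨pt f n z, hyU⟩
  refine ⟨Θ, fun b => ?_, fun b => ?_⟩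
  · have : Θ.comp (p1s f n z) = algebraMap (RB f n z) _ :=
      IsLocalization.ringHom_ext (U.2.primeIdealOf ⟨pt f n z, hyU⟩).asIdeal.primeCompl (RingHom.ext fun a => by
        show Θ (p1s f n z (X.presheaf.germ U.1 _ hyU a)) = algebraMap (RB f n z) _ (X.presheaf.germ U.1 _ hyU a)
        rw [p1s_germ f n z U.1 hz hyU, hΘ, hγ1])
    exact DFunLike.congr_fun this b
  · have : Θ.comp (p2s f n z) = (PP16.dn n (RA f n z) (RB f n z)).toRingHom :=
      IsLocalization.ringHom_ext (U.2.primeIdealOf ⟨pt f n z, hyU⟩).asIdeal.primeCompl (RingHom.ext fun a => by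
        show Θ (p2s f n z (X.presheaf.germ U.1 _ hyU a)) = PP16.dn n _ _ (X.presheaf.germ U.1 _ hyU a)
        rw [p2s_germ f n z U.1 hz hyU, hΘ, hγ2])
    exact DFunLike.congr_fun this b

end Groth.Agent.H1PP
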