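import Groth.Agent.H1PP.Theta
import Groth.Agent.PPLib.PMUniv
import Groth.Agent.DiffOps.Basic

/-!
# The sheaf of principal parts classifies differential operators
-/

set_option autoImplicit false
set_option linter.style.haveILetI false
set_option linter.unusedSectionVars false

universe u

open CategoryTheory CategoryTheory.Limits AlgebraicGeometry TopologicalSpace Opposite

namespace Groth.Agent.H1PP

open Groth.Agent.Synt29.OmegaStalk

variable {X S : Scheme.{u}} (f : X ⟶ S) (n : ℕ) {F G : X.Modules} (D : F.presheaf ⟶ G.presheaf)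

/-- A map of abelian sheaves on germs. -/
noncomputable def stalkD (y : X) : St F y →+ St G y :=
  ((TopCat.Presheaf.stalkFunctor AddCommGrpCat.{u} y).map D).hom

theorem stalkD_gm (y : X) {U : X.Opens} (hy : y ∈ U) (t : Γ(F, U)) :
    stalkD D y (gm F hy t) = gm G hy (D.app (op U) t) :=
  TopCat.Presheaf.stalkFunctor_map_germ_apply U y hy D t

/-- Linearity for functions from the base. -/
def BaseLinear : Prop :=
  ∀ (V : S.Opens) (s : Γ(S, V)) (U : X.Opens) (hU : U ≤ f ⁻¹ᵁ V) (t : Γ(F, U)),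
    D.app (op U) (X.presheaf.map (homOfLE hU).op (f.app V s) • t) =
      X.presheaf.map (homOfLE hU).op (f.app V s) • D.app (op U) t

/-- Vanishing of the alternating sums. -/
def AltVanish : Prop :=
  ∀ (U : X.Opens) (a : Fin (n + 1) → Γ(X, U)) (t : Γ(F, U)),
    (∑ H : Finset (Fin (n + 1)),
      ((-1 : ℤ) ^ H.card) • ((∏ i ∈ H, a i) • D.app (op U) ((∏ i ∈ Hᶜ, a i) • t))) = 0

variable {f} {n} {D}

theorem natD {U V : X.Opens} (i : V ⟶ U) (t : Γ(F, U)) :
    D.app (op V) (F.presheaf.map i.op t) = G.presheaf.map i.op (D.app (op U) t) :=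
  congr($(D.naturality i.op) t)

theorem stalkD_base (hlin : BaseLinear f D) (y : X) (c : S.presheaf.stalk (f y)) (m : St F y) :
    stalkD D y (f.stalkMap y c • m) = f.stalkMap y c • stalkD D y m := by
  obtain ⟨V, hV, c, rfl⟩ := S.presheaf.exists_germ_eq c
  obtain ⟨U, hy, t, rfl⟩ := gm_surjective F m
  let W := U ⊓ f ⁻¹ᵁ V
  have hW : y ∈ W := ⟨hy, hV⟩
  have hc : f.stalkMap y (S.presheaf.germ V (f y) hV c) =
      X.presheaf.germ W y hW (X.presheaf.map (homOfLE inf_le_right).op (f.app V c)) := by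
    refine (Scheme.Hom.germ_stalkMap_apply f V y hV c).trans ?_
    exact (X.presheaf.germ_res_apply (homOfLE (inf_le_right : W ≤ f ⁻¹ᵁ V)) y hW _).symm
  have ht : gm F hy t = gm F hW (F.presheaf.map (homOfLE inf_le_left).op t) :=
    (gm_res F (homOfLE (inf_le_left : W ≤ U)) hW t).symm
  rw [hc, ht, ← gm_smul, stalkD_gm, stalkD_gm, hlin V c W inf_le_right, gm_smul]

variable (F) in
/-- Representatives of finitely many germs over one open. -/
theorem exists_common {ι : Type*} [Fintype ι] (y : X) (b : ι → X.presheaf.stalk y) (m : St F y) :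
    ∃ (U : X.Opens) (hy : y ∈ U) (a : ι → Γ(X, U)) (t : Γ(F, U)),
      (∀ i, X.presheaf.germ U y hy (a i) = b i) ∧ gm F hy t = m := by
  classical
  choose W hW a ha using fun i => X.presheaf.exists_germ_eq (b i)
  obtain ⟨U, hy, t, rfl⟩ := gm_surjective F m
  let V : X.Opens := U ⊓ Finset.univ.inf W
  have hyV : y ∈ V := ⟨hy, by
    have : ∀ s : Finset ι, y ∈ s.inf W := by
      intro s
      induction s using Finset.induction_on with
      | empty => simp
      | insert i s _ ih => rw [Finset.inf_insert]; exact ⟨hW i, ih⟩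
    exact this _⟩
  have hle : ∀ i, V ≤ W i := fun i => inf_le_right.trans (Finset.inf_le (Finset.mem_univ i))
  refine ⟨V, hyV, fun i => X.presheaf.map (homOfLE (hle i)).op (a i),
    F.presheaf.map (homOfLE inf_le_left).op t, fun i => ?_, ?_⟩
  · rw [← ha i]
    exact X.presheaf.germ_res_apply _ _ _ _
  · exact gm_res F (homOfLE (inf_le_left : V ≤ U)) hyV t

theorem stalkD_alt (halt : AltVanish n D) (y : X) (b : Fin (n + 1) → X.presheaf.stalk y) (m : St F y) :
    (∑ H : Finset (Fin (n + 1)),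
      ((-1 : ℤ) ^ H.card) • ((∏ i ∈ H, b i) • stalkD D y ((∏ i ∈ Hᶜ, b i) • m))) = 0 := by
  obtain ⟨U, hy, a, t, hab, rfl⟩ := exists_common F y b m
  have h := congrArg (gm G hy) (halt U a t)
  rw [map_zero, map_sum] at h
  refine Eq.trans (Finset.sum_congr rfl fun H _ => ?_) h
  rw [map_zsmul, gm_smul, ← stalkD_gm D y hy, gm_smul, map_prod, map_prod]
  simp only [hab]

/-- The linearised operator on the stalk of the pullback. -/
theorem exists_omega (hlin : BaseLinear f D) (halt : AltVanish n D) (z : PrinPart.nbhd f n) :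
    ∃ ω : St ((Scheme.Modules.pullback (PrinPart.pr2 f n)).obj F) z →+ St G (pt f n z),
      (∀ (b : RB f n z) (w : St ((Scheme.Modules.pullback (PrinPart.pr2 f n)).obj F) z),
        ω (p1s f n z b • w) = b • ω w) ∧
      (∀ (U : X.Opens) (hz : z ∈ PrinPart.pr2 f n ⁻¹ᵁ U) (t : Γ(F, U)),
        ω (gm _ hz (OmegaSh.pullSect (PrinPart.pr2 f n) F U t)) = gm G (show pt f n z ∈ U from hz) (D.app (op U) t)) := by
  obtain ⟨Θ, hΘ1, hΘ2⟩ := exists_theta f n z
  let y := pt f n z
  let A := RA f n z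
  let B := RB f n z
  letI : Module A (St F y) := Module.compHom _ (algebraMap A B)
  letI : Module A (St G y) := Module.compHom _ (algebraMap A B)
  haveI : IsScalarTower A B (St F y) := IsScalarTower.of_algebraMap_smul fun _ _ => rfl
  haveI : IsScalarTower A B (St G y) := IsScalarTower.of_algebraMap_smul fun _ _ => rfl
  let Dy : St F y →ₗ[A] St G y :=
    { toFun := stalkD D y
      map_add' := map_add _
      map_smul' := fun c m => stalkD_base hlin y c m }
  have hDy : Diff16.IsDiffOpLE A B (St F y) (St G y) n Dy := by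
    rw [DiffOps.isDiffOpLE_iff_altSum]
    intro b m
    have h := stalkD_alt halt y b m
    simp only [DiffOps.altSum, Finset.powerset_univ, ← Finset.compl_eq_univ_sdiff]
    exact h
  obtain ⟨v, ⟨hv1, hv2⟩, -⟩ := PPLib.existsUnique_u Dy hDy
  letI : Module ((PrinPart.nbhd f n).presheaf.stalk z) (PP16.PM n A B (St F y)) := Module.compHom _ Θ
  let N : ModuleCat.{u} ((PrinPart.nbhd f n).presheaf.stalk z) := ModuleCat.of _ (PP16.PM n A B (St F y))
  let h₀ : St F y ⟶ (ModuleCat.restrictScalars ((PrinPart.pr2 f n).stalkMap z).hom).obj N :=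
    ModuleCat.ofHom (Y := (ModuleCat.restrictScalars ((PrinPart.pr2 f n).stalkMap z).hom).obj N)
      { toFun := fun m => (PP16.dM n A B (St F y) m : PP16.PM n A B (St F y))
        map_add' := fun _ _ => map_add _ _ _
        map_smul' := fun b m => by
          show PP16.dM n A B (St F y) (b • m) = Θ (p2s f n z b) • PP16.dM n A B (St F y) m
          rw [hΘ2]
          show (1 : PP16.Pr n A B) ⊗ₜ[B] (b • m) = PP16.dn n A B b • ((1 : PP16.Pr n A B) ⊗ₜ[B] m)
          rw [← TensorProduct.smul_tmul b (1 : PP16.Pr n A B) m, TensorProduct.smul_tmul']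
          rfl }
  let adj := ModuleCat.extendRestrictScalarsAdj ((PrinPart.pr2 f n).stalkMap z).hom
  let g := (adj.homEquiv (St F y) N).symm h₀
  have hg : ∀ m : St F y, g (adj.unit.app (St F y) m) = h₀ m := by
    intro m
    have := (adj.homEquiv (St F y) N).apply_symm_apply h₀
    rw [Adjunction.homEquiv_unit] at this
    exact congr($this m)
  let E := (KFlatLib.stalkPullbackIso (PrinPart.pr2 f n) z).hom.app F
  let gE : St ((Scheme.Modules.pullback (PrinPart.pr2 f n)).obj F) z ⟶ N := E ≫ g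
  refine ⟨v.comp gE.hom.toAddMonoidHom, fun b w => ?_, fun U hz t => ?_⟩
  · show v (gE (p1s f n z b • w)) = b • v (gE w)
    rw [map_smul]
    show v (Θ (p1s f n z b) • _) = _
    rw [hΘ1]
    exact hv1 b _
  · show v (g (E (gm _ hz (OmegaSh.pullSect (PrinPart.pr2 f n) F U t)))) = _
    rw [stalkPullbackIso_gm (PrinPart.pr2 f n) F z hz t]
    rw [hg]
    show v (PP16.dM n A B (St F y) _) = _
    rw [hv2]
    exact stalkD_gm D y hz t

/-- **The universal property of principal parts.** -/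
theorem isDiffOpLE_of_altVanish (hlin : BaseLinear f D) (halt : AltVanish n D) :
    PrinPart.IsDiffOpLE f F G n D := by
  classical
  choose ω hω1 hω2 using fun z => exists_omega (f := f) (n := n) hlin halt z
  let M := (Scheme.Modules.pullback (PrinPart.pr2 f n)).obj F
  have hmem : ∀ {U : X.Opens} {z : PrinPart.nbhd f n}, z ∈ PrinPart.pr1 f n ⁻¹ᵁ U → pt f n z ∈ U :=
    fun {U z} hz => (PrinPart.preimage_pr1 f n U).le hz
  -- `s` is the image of `σ`
  let R : ∀ U : X.Opens, Γ(PrinPart.PMod f n F, U) → Γ(G, U) → Prop := fun U σ s =>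
    ∀ (z : PrinPart.nbhd f n) (hz : z ∈ PrinPart.pr1 f n ⁻¹ᵁ U),
      ω z (gm M hz (toPull f n F U σ)) = gm G (hmem hz) s
  have hres : ∀ {U V : X.Opens} (h : V ≤ U) σ s, R U σ s →
      R V ((PrinPart.PMod f n F).presheaf.map (homOfLE h).op σ) (G.presheaf.map (homOfLE h).op s) := by
    intro U V h σ s hs z hz
    rw [gm_res G (homOfLE h)]
    exact (congrArg (ω z) (gm_res M (homOfLE ((PrinPart.pr1 f n).preimage_mono h)) hz σ)).trans
      (hs z ((PrinPart.pr1 f n).preimage_mono h hz))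
  have hpt : ∀ x : X, pt f n (PrinPart.toNbhd f n x) = x := fun x => by
    show PrinPart.pr2 f n (PrinPart.toNbhd f n x) = x
    rw [← Scheme.Hom.comp_apply, PrinPart.toNbhd_pr2]; rfl
  have huniq : ∀ {U : X.Opens} {σ : Γ(PrinPart.PMod f n F, U)} {s s' : Γ(G, U)}, R U σ s → R U σ s' → s = s' := by
    intro U σ s s' hs hs'
    refine TopCat.Presheaf.section_ext ⟨G.presheaf, G.isSheaf⟩ U _ _ fun x hx => ?_
    have key : ∀ y (hy : y ∈ U), (∃ z, ∃ _ : z ∈ PrinPart.pr1 f n ⁻¹ᵁ U, pt f n z = y) →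
        gm G hy s = gm G hy s' := by
      rintro y hy ⟨z, hz, rfl⟩
      exact (hs z hz).symm.trans (hs' z hz)
    refine key x hx ⟨PrinPart.toNbhd f n x, ?_, hpt x⟩
    rw [PrinPart.preimage_pr1]
    show pt f n _ ∈ U
    rw [hpt]; exact hx
  have hdP : ∀ (U : X.Opens) (t : Γ(F, U)), R U (PrinPart.dP f n F U t) (D.app (op U) t) := by
    intro U t z hz
    have e : gm M hz (toPull f n F U (PrinPart.dP f n F U t)) =
        gm M ((PrinPart.preimage_pr1 f n U).le hz) (OmegaSh.pullSect (PrinPart.pr2 f n) F U t) :=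
      gm_res M (homOfLE (PrinPart.preimage_pr1 f n U).le) hz _
    rw [e, hω2]
  have hsmul : ∀ {U : X.Opens} (a : Γ(X, U)) {σ s}, R U σ s → R U (a • σ) (a • s) := by
    intro U a σ s hs z hz
    rw [gm_smul, smul_eq, gm_smul, ← hs z hz, ← hω1, p1s_germ f n z U hz (hmem hz)]
  have hadd : ∀ {U : X.Opens} {σ σ' s s'}, R U σ s → R U σ' s' → R U (σ + σ') (s + s') := by
    intro U σ σ' s s' hs hs' z hz
    show ω z (gm M hz (toPull f n F U σ + toPull f n F U σ')) = _
    rw [map_add, map_add, map_add, hs z hz, hs' z hz]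
  have hspan : ∀ {V : X.Opens} {σ : Γ(PrinPart.PMod f n F, V)},
      σ ∈ Submodule.span Γ(X, V) (Set.range (PrinPart.dP f n F V)) → ∃ s, R V σ s := by
    intro V σ hσ
    induction hσ using Submodule.span_induction with
    | mem x hx => obtain ⟨t, rfl⟩ := hx; exact ⟨_, hdP V t⟩
    | zero =>
      refine ⟨0, fun z hz => ?_⟩
      show ω z (gm M hz 0) = _
      rw [map_zero, map_zero, map_zero]
    | add x y _ _ hx hy => obtain ⟨s, hs⟩ := hx; obtain ⟨s', hs'⟩ := hy; exact ⟨_, hadd hs hs'⟩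
    | smul a x _ hx => obtain ⟨s, hs⟩ := hx; exact ⟨_, hsmul a hs⟩
  have hex : ∀ (U : X.Opens) (σ : Γ(PrinPart.PMod f n F, U)), ∃ s, R U σ s := by
    intro U σ
    choose V hVU hxV hV using fun x : U => PPSheaf.exists_mem_span f n F U σ x.1 x.2
    choose s hs using fun x => hspan (hV x)
    have hcompat : ∀ x x' : U, G.presheaf.map (homOfLE (inf_le_left : V x ⊓ V x' ≤ V x)).op (s x) =
        G.presheaf.map (homOfLE (inf_le_right : V x ⊓ V x' ≤ V x')).op (s x') := by
      intro x x'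
      have h1 := hres (inf_le_left : V x ⊓ V x' ≤ V x) _ _ (hs x)
      have h2 := hres (inf_le_right : V x ⊓ V x' ≤ V x') _ _ (hs x')
      rw [Nrm6.resM_resM' _ _ (homOfLE ((inf_le_left : V x ⊓ V x' ≤ V x).trans (hVU x)))] at h1
      rw [Nrm6.resM_resM' _ _ (homOfLE ((inf_le_right : V x ⊓ V x' ≤ V x').trans (hVU x')))] at h2
      exact huniq h1 h2
    obtain ⟨t, ht, -⟩ := TopCat.Sheaf.existsUnique_gluing' (⟨G.presheaf, G.isSheaf⟩ : TopCat.Sheaf AddCommGrpCat.{u} X)
      V U (fun x => homOfLE (hVU x)) (fun x hx => Opens.mem_iSup.mpr ⟨⟨x, hx⟩, hxV ⟨x, hx⟩⟩) s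
      (fun x x' => hcompat x x')
    refine ⟨t, fun z hz => ?_⟩
    let x : U := ⟨pt f n z, hmem hz⟩
    have hzV : z ∈ PrinPart.pr1 f n ⁻¹ᵁ V x := (PrinPart.preimage_pr1 f n (V x)).ge (hxV x)
    have h := hs x z hzV
    rw [show gm G (hmem hz) t = gm G (hmem hzV) (G.presheaf.map (homOfLE (hVU x)).op t) from
      (gm_res G (homOfLE (hVU x)) (hmem hzV) t).symm]
    rw [show G.presheaf.map (homOfLE (hVU x)).op t = s x from ht x, ← h]
    exact congrArg (ω z) (gm_res M (homOfLE ((PrinPart.pr1 f n).preimage_mono (hVU x))) hzV σ).symm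
  choose u hu using hex
  let φ : ∀ U : X.Opens, Γ(PrinPart.PMod f n F, U) →+ Γ(G, U) := fun U =>
    AddMonoidHom.mk' (u U) fun σ σ' => huniq (hu U (σ + σ')) (hadd (hu U σ) (hu U σ'))
  let v : PrinPart.PMod f n F ⟶ G := ⟨PresheafOfModules.homMk
    { app := fun U => AddCommGrpCat.ofHom (φ U.unop)
      naturality := fun U V i => by
        ext σ
        exact huniq (hu V.unop ((PrinPart.PMod f n F).presheaf.map i σ)) (hres i.unop.le _ _ (hu U.unop σ)) }
    (fun U a σ => huniq (hu U.unop _) (hsmul a (hu U.unop σ)))⟩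
  exact ⟨v, fun U t => huniq (hdP U t) (hu U _)⟩

end Groth.Agent.H1PP
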